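import Cfsg.Agent.A8Type.Cz.Rot
import Cfsg.Agent.S0215
import Cfsg.Agent.TwoTransfer.Basic

/-!
The possible actions of the centralizer of the central involution: some rotation is induced, a
conjugate of the central involution lies in `A`, and the action of the normalizer of `A`.
-/

set_option autoImplicit false
set_option maxRecDepth 8000

namespace Cfsg.Agent.A8Type

open Subgroup

namespace UT

theorem AQ_self : ∀ r : UT, r * x13 = x13 * r → r * x24 = x24 * r → r ∈ AS := by decide +kernel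

theorem gen_AQ : x13 ∈ AS ∧ x13 ∈ QS ∧ x24 ∈ AS ∧ x24 ∈ QS ∧ x23 ∉ QS := by decide +kernel

theorem AS_split : ∀ a ∈ AS, a ∈ QS ∨ (a * x23 ∈ AS ∧ a * x23 ∈ QS) := by decide +kernel

theorem rho_AS : (∀ i j : Fin 3, (∀ x : UT, x ∈ AS → x ∈ QS → rho i j x ∈ AS) → i = 0) ∧
    ∀ j : Fin 3, ∀ x : UT, x ∈ AS → x ∈ QS → rho 0 j x ∈ AS := by
  refine ⟨by decide +kernel, by decide +kernel⟩

theorem kap_facts : Base.kapTab x23 = x23 ∧
    (∀ a : UT, a ∈ AS → a ∈ QS → Base.kapTab a = rho 0 1 a) ∧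
    (∀ a : UT, a ∈ AS → a ∉ QS → Base.kapTab a = Base.kapTab (a * x23) * x23) ∧
    (∀ a : UT, a ∈ AS → Base.kapTab a ∈ AS) ∧
    ∀ j : Fin 3, ∀ a : UT, a ∈ AS → a ∈ QS → Base.kapTab^[(j : ℕ)] a = rho 0 j a := by
  refine ⟨by decide +kernel, by decide +kernel, by decide +kernel, by decide +kernel, by decide +kernel⟩

theorem comm_facts : ∀ r : UT, r * r = 1 → r ∉ AS →
    (∀ a : UT, a * r = r * a → ∀ b : UT, b * r = r * b →
      a * b * a⁻¹ * b⁻¹ = 1 ∨ a * b * a⁻¹ * b⁻¹ = zs) ∧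
      ∃ a : UT, a * r = r * a ∧ ∃ b : UT, b * r = r * b ∧ a * b * a⁻¹ * b⁻¹ = zs := by
  decide +kernel

/-- The matrices with vanishing first entry. -/
def MS : Subgroup UT where
  carrier := {x | x.a = 0}
  one_mem' := rfl
  mul_mem' := fun {x y} (hx : x.a = 0) (hy : y.a = 0) => show x.a + y.a = 0 by rw [hx, hy, add_zero]
  inv_mem' := fun {x} (hx : x.a = 0) => show -x.a = 0 by rw [hx, neg_zero]

instance : DecidablePred (· ∈ MS) := fun x => inferInstanceAs (Decidable (x.a = 0))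

theorem MS_facts : x12 ∉ MS ∧ x12 ∉ AS ∧ x34 ∉ AS ∧ x12 * x12 = 1 ∧ x34 * x34 = 1 ∧
    Fintype.card MS = 32 ∧
    (∀ s : UT, s * s = 1 → s ≠ 1 → s ∈ MS → s ∈ AS ∨ ∃ g : UT, g * s * g⁻¹ = x34) ∧
    ∀ g : UT, g * x12 * g⁻¹ ≠ x34 := by
  refine ⟨by decide +kernel, by decide +kernel, by decide +kernel, by decide +kernel,
    by decide +kernel, by decide +kernel, by decide +kernel, by decide +kernel⟩

end UT

theorem cube_conj {G : Type*} [Group G] (k x : G) :
    k ^ 3 * x * (k ^ 3)⁻¹ = k * (k * (k * x * k⁻¹) * k⁻¹) * k⁻¹ := by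
  rw [pow_succ, pow_succ, pow_one]
  group

namespace Base

variable {G : Type*} [Group G] [Finite G] (B : Base G)

/-- Equal modulo the core means equal. -/
theorem eq_mod {o : G} (ho : o ∈ theta B.z) {a b : UT} (he : o * B.f a = B.f b) : a = b := by
  haveI : Fact (Nat.Prime 2) := ⟨Nat.prime_two⟩
  have hdisj : Disjoint (theta B.z) B.f.range := disjoint_of_coprime_natCard (by
    rw [B.card_range, show 64 = 2 ^ 6 by norm_num]
    exact ((Nat.prime_two.coprime_iff_not_dvd.2 (theta_odd B.z)).pow_left 6).symm)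
  have hor : o ∈ B.f.range := ⟨b * a⁻¹, by rw [map_mul, map_inv, ← he, mul_inv_cancel_right]⟩
  rw [disjoint_def.1 hdisj ho hor, one_mul] at he
  exact B.inj he

/-- Equal up to conjugation by the core means equal. -/
theorem eq_conj_mod {o : G} (ho : o ∈ theta B.z) {a b : UT} (he : o * B.f a * o⁻¹ = B.f b) : a = b := by
  refine B.eq_mod (o := o * (B.f a * o⁻¹ * (B.f a)⁻¹))
    (mul_mem ho (theta_normal (B.comm_z a) (inv_mem ho))) ?_
  rw [← he]
  group

omit [Finite G] in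
theorem mem_normA (s : UT) : B.f s ∈ normalizer (B.A : Set G) := by
  refine mem_normalizer_iff.2 fun x => ⟨?_, ?_⟩
  · rintro ⟨a, ha, rfl⟩
    exact ⟨s * a * s⁻¹, UT.AS_facts.2.2.1 a ha s, B.conj_f s a⟩
  · rintro ⟨a, ha, he⟩
    refine ⟨s⁻¹ * a * s⁻¹⁻¹, UT.AS_facts.2.2.1 a ha _, ?_⟩
    rw [B.conj_f, he, map_inv]
    group

/-- An involution outside `A` whose centralizer has order divisible by 32 is moved into `A` in the
centralizer of the central involution. -/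
theorem to_A {r : UT} (hr : r * r = 1) (hrA : r ∉ AS)
    (h32 : 32 ∣ Nat.card (centralizer ({B.f r} : Set G))) :
    ∃ c : G, Commute c B.z ∧ ∃ r' ∈ AS, r' ≠ zs ∧ c * B.f r * c⁻¹ = B.f r' := by
  classical
  haveI : Fact (Nat.Prime 2) := ⟨Nat.prime_two⟩
  obtain ⟨hcm, a, ha, b, hb, hab⟩ := UT.comm_facts r hr hrA
  have h16 : Nat.card (B.centS r) = 2 ^ 4 := by
    rw [B.card_centS, (UT.outside_AS r hr hrA).1]
    norm_num
  obtain ⟨K, hK, hKc, hTK, hKn⟩ := grow h16 (B.centS_le r) (by norm_num; exact h32)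
  have hmem : ∀ x : UT, x * r = r * x → B.f x ∈ B.centS r := fun x hx =>
    mem_map_of_mem _ (mem_centralizer_singleton_iff.2 hx)
  have hKz : K ≤ centralizer ({B.z} : Set G) := by
    intro k hk
    obtain ⟨a', ha', hae⟩ := hKn k hk _ (hmem a ha)
    obtain ⟨b', hb', hbe⟩ := hKn k hk _ (hmem b hb)
    have h1 : k * B.z * k⁻¹ = B.f (a' * b' * a'⁻¹ * b'⁻¹) := by
      rw [show B.z = B.f zs from rfl, ← hab, map_mul, map_mul, map_mul, map_inv, map_inv, map_mul,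
        map_mul, map_mul, map_inv, map_inv, hae, hbe]
      group
    refine mem_centralizer_singleton_iff.2 (mul_inv_eq_iff_eq_mul.1 ?_)
    rw [h1]
    rcases hcm a' (mem_centralizer_singleton_iff.1 ha') b' (mem_centralizer_singleton_iff.1 hb') with
      e | e
    · rw [e, map_one, conj_eq_one_iff] at h1
      exact absurd h1 fun e' => UT.zs_facts.1 (B.inj (e'.trans (map_one B.f).symm))
    · rw [e]; rfl
  obtain ⟨c, hc, hcs⟩ := B.conj_into B.range_le (IsPGroup.of_card hKc) hKz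
  obtain ⟨r', hr'⟩ := hcs _ (hTK (hmem r rfl))
  refine ⟨c, mem_centralizer_singleton_iff.1 hc, r', ?_, ?_, hr'⟩
  · by_contra hA
    have hr2 : r' * r' = 1 := B.inj (by rw [map_mul, map_one, ← hr', conj_mul, ← map_mul, hr, map_one]; group)
    have hle : K.map (MulAut.conj c).toMonoidHom ≤ B.centS r' := by
      rintro _ ⟨k, hk, rfl⟩
      obtain ⟨t, ht⟩ := hcs k hk
      refine ⟨t, mem_centralizer_singleton_iff.2 (B.inj ?_), ht.symm⟩
      rw [map_mul, map_mul, ← ht, ← hr', conj_mul, conj_mul, mem_centralizer_singleton_iff.1 (hK hk)]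
    have h1 := card_dvd_of_le hle
    rw [card_map_of_injective (MulEquiv.injective _), hKc, B.card_centS,
      (UT.outside_AS r' hr2 hA).1] at h1
    norm_num at h1
  · intro e
    subst e
    refine hrA (?_ : r ∈ AS)
    have hcz : c * B.z * c⁻¹ = B.z := by
      rw [mem_centralizer_singleton_iff.1 hc, mul_inv_cancel_right]
    rw [B.inj (mul_left_cancel (mul_right_cancel (hr'.trans hcz.symm)))]
    exact UT.AS_facts.2.2.2.2

variable (h : B.Simp)
include h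

/-- The central involution has another conjugate in `A`. -/
theorem move : ∃ a ∈ AS, a ≠ zs ∧ IsConj B.z (B.f a) := by
  haveI : Fact (Nat.Prime 2) := ⟨Nat.prime_two⟩
  obtain ⟨P, hP⟩ := B.sylow
  obtain ⟨g, hg, hgne⟩ : ∃ g : G, g * B.z * g⁻¹ ∈ (P : Subgroup G) ∧ g * B.z * g⁻¹ ≠ B.z := by
    by_contra hno
    push Not at hno
    obtain ⟨N, hN, hNodd, hNc⟩ := S0215.result P B.z B.orderOf_z
      (by show B.z ∈ (P : Subgroup G); rw [hP]; exact ⟨zs, rfl⟩) hno
    have hN1 : N = ⊥ := by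
      rw [← le_bot_iff, ← h.oddcore]
      exact Core.le_pPrimeCore (p := 2) (N := N) (Nat.coprime_two_right.2 hNodd)
    have hcen : ∀ g : G, g * B.z = B.z * g := by
      intro g
      have h1 := hNc g
      rw [hN1, mem_bot, mul_inv_eq_one, mul_inv_eq_iff_eq_mul] at h1
      exact h1.symm
    have hn : (zpowers B.z).Normal := ⟨fun x hx g => by
      obtain ⟨k, rfl⟩ := hx
      rw [((show Commute g B.z from hcen g).zpow_right k).eq, mul_inv_cancel_right]
      exact zpow_mem (mem_zpowers _) k⟩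
    have h2 : zpowers B.z ≤ pCore 2 G := Core.le_pCore (hN := hn)
      (IsPGroup.of_card (n := 1) (by rw [Nat.card_zpowers, B.orderOf_z, pow_one]))
    rw [h.pcore, le_bot_iff, zpowers_eq_bot] at h2
    exact UT.zs_facts.1 (B.inj (h2.trans (map_one B.f).symm))
  rw [hP] at hg
  obtain ⟨s, hs⟩ := hg
  have hz : IsConj B.z (B.f s) := isConj_iff.2 ⟨g, hs.symm⟩
  have hsz : s ≠ zs := fun e => hgne (by rw [← hs, e]; rfl)
  by_cases hsA : s ∈ AS
  · exact ⟨s, hsA, hsz, hz⟩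
  have hs2 : s * s = 1 := B.inj (by
    rw [map_mul, map_one, hs, conj_mul, show B.z * B.z = 1 by
      rw [← sq, ← B.orderOf_z, pow_orderOf_eq_one]]
    group)
  obtain ⟨c, -, r', hr', hne, he⟩ := B.to_A hs2 hsA
    (Dvd.dvd.trans (by norm_num) (B.card_dvd_of_conj hz))
  exact ⟨r', hr', hne, hz.trans (isConj_iff.2 ⟨c, he⟩)⟩

/-- The centralizer of the central involution induces a rotation. -/
theorem rot_cases : B.Rot 1 0 ∨ B.Rot 0 1 := by
  classical
  haveI : Fact (Nat.Prime 2) := ⟨Nat.prime_two⟩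
  by_contra hno
  push Not at hno
  have hsmall : ∀ g : G, Commute g B.z → ∃ o ∈ theta B.z, ∃ s : UT, g = o * B.f s := by
    intro g hg
    obtain ⟨o, ho, s, n, ⟨hnz, i, j, hn⟩, rfl⟩ := B.exists_spl h hg
    have hij := B.rot_split (⟨n, hnz, hn⟩ : B.Rot i j)
    obtain rfl : i = 0 := by_contra fun e => hno.1 (hij.1 e)
    obtain rfl : j = 0 := by_contra fun e => hno.2 (hij.2 e)
    obtain ⟨o', ho', t, -, rfl⟩ := B.cent_Q h hnz fun q hq => by
      show n * B.f q = B.f q * n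
      have := hn q hq
      rw [UT.rho_zero q hq, mul_inv_eq_iff_eq_mul] at this
      exact this
    refine ⟨o * (B.f s * o' * (B.f s)⁻¹), mul_mem ho (theta_normal (B.comm_z s) ho'), s * t, ?_⟩
    rw [map_mul]
    group
  have no32 : ∀ r : UT, r * r = 1 → r ∉ AS → ¬ 32 ∣ Nat.card (centralizer ({B.f r} : Set G)) := by
    intro r hr hrA h32
    obtain ⟨c, hc, r', hr', -, he⟩ := B.to_A hr hrA h32
    obtain ⟨o, ho, t, rfl⟩ := hsmall c hc
    rw [show o * B.f t * B.f r * (o * B.f t)⁻¹ = o * (B.f t * B.f r * (B.f t)⁻¹) * o⁻¹ by group,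
      ← B.conj_f] at he
    have h1 := B.eq_conj_mod ho he
    refine hrA ?_
    have h2 := UT.AS_facts.2.2.1 r' hr' t⁻¹
    rwa [← h1, show t⁻¹ * (t * r * t⁻¹) * t⁻¹⁻¹ = r by group] at h2
  have syl : ∀ r : UT, r * r = 1 → r ∉ AS → ∀ T : Subgroup G, T ≤ centralizer ({B.f r} : Set G) →
      Nat.card T = 16 → ∃ c : G, Commute c (B.f r) ∧ ∀ x ∈ T, c * x * c⁻¹ ∈ B.centS r := by
    intro r hr hrA T hT h16
    set C := centralizer ({B.f r} : Set G)
    have hsy : ∀ U : Subgroup G, U ≤ C → Nat.card U = 16 →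
        ∃ P : Sylow 2 C, (P : Subgroup C) = U.subgroupOf C := by
      intro U hU hUc
      have hc : Nat.card (U.subgroupOf C) = 2 ^ 4 := by
        rw [Nat.card_congr (subgroupOfEquivOfLe hU).toEquiv, hUc]; norm_num
      refine ⟨IsPGroup.toSylow (IsPGroup.of_card hc) fun h2 => no32 r hr hrA ?_, rfl⟩
      rw [← (U.subgroupOf C).card_mul_index, hc]
      exact mul_dvd_mul_left (2 ^ 4) h2
    obtain ⟨P₁, hP₁⟩ := hsy T hT h16
    obtain ⟨P₀, hP₀⟩ := hsy (B.centS r) (B.centS_le r)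
      (by rw [B.card_centS, (UT.outside_AS r hr hrA).1])
    obtain ⟨c, hc⟩ := MulAction.exists_smul_eq C P₁ P₀
    refine ⟨c, mem_centralizer_singleton_iff.1 c.2, fun x hx => ?_⟩
    have hx1 : (⟨x, hT hx⟩ : C) ∈ (P₁ : Subgroup C) := hP₁ ▸ mem_subgroupOf.2 hx
    have hx2 : c * ⟨x, hT hx⟩ * c⁻¹ ∈ (P₀ : Subgroup C) := by
      rw [← hc, Sylow.coe_subgroup_smul]
      exact smul_mem_pointwise_smul _ (MulAut.conj c) _ hx1
    rw [hP₀] at hx2
    exact mem_subgroupOf.1 hx2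
  obtain ⟨m1, m2, m3, m4, m5, m6, m7, m8⟩ := UT.MS_facts
  obtain ⟨P, hP⟩ := B.sylow
  have hMi : (UT.MS.map B.f).relIndex P = 2 := by
    rw [hP, MonoidHom.range_eq_map, relIndex_map_map_of_injective _ _ B.inj, relIndex_top_right]
    have h1 := UT.MS.card_mul_index
    rw [Nat.card_eq_fintype_card, m6, Nat.card_eq_fintype_card, UT.fintype_card_ut] at h1
    omega
  refine absurd (TwoTransfer.exists_index_two P (UT.MS.map B.f) hMi (B.f UT.x12)
    (by show B.f UT.x12 ∈ (P : Subgroup G); rw [hP]; exact ⟨UT.x12, rfl⟩)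
    (fun k g hk _ => ?_) (fun g hg hgM => ?_)) (fun ⟨N, _, hN, _⟩ => h.no_index_two N hN)
  · obtain ⟨k, rfl⟩ : ∃ k', k = k' + 1 := ⟨k - 1, by omega⟩
    rw [pow_succ', pow_mul, sq, ← map_mul, m4, map_one, one_pow]
    simp
  obtain ⟨s, hsM, hs⟩ := hgM
  have hs2 : s * s = 1 := B.inj (by
    rw [map_mul, map_one, hs, show g⁻¹ * B.f UT.x12 * g * (g⁻¹ * B.f UT.x12 * g) =
      g⁻¹ * (B.f UT.x12 * B.f UT.x12) * g by group, ← map_mul, m4, map_one]
    group)
  have hs1 : s ≠ 1 := fun e => by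
    rw [e, map_one] at hs
    have h2 : B.f UT.x12 = 1 := by
      rw [show B.f UT.x12 = g * (g⁻¹ * B.f UT.x12 * g) * g⁻¹ by group, ← hs]; group
    exact m2 ((B.inj (h2.trans (map_one B.f).symm)) ▸ one_mem _)
  rcases m7 s hs2 hs1 hsM with hsA | ⟨t, ht⟩
  · -- the conjugate of `A` would centralize it
    set T := B.A.map (MulAut.conj g).toMonoidHom with hTdef
    have hT : T ≤ centralizer ({B.f UT.x12} : Set G) := by
      rintro _ ⟨a, ha, rfl⟩
      refine mem_centralizer_singleton_iff.2 ?_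
      have h1 := B.A_comm a ha _ (mem_map_of_mem B.f hsA)
      rw [hs] at h1
      show g * a * g⁻¹ * B.f UT.x12 = B.f UT.x12 * (g * a * g⁻¹)
      calc g * a * g⁻¹ * B.f UT.x12 = g * (a * (g⁻¹ * B.f UT.x12 * g)) * g⁻¹ := by group
        _ = B.f UT.x12 * (g * a * g⁻¹) := by rw [h1]; group
    obtain ⟨c, -, hc⟩ := syl _ m4 m2 T hT (by
      rw [hTdef, card_map_of_injective (MulEquiv.injective _), B.card_A])
    have he := B.eq_A (T := T.map (MulAut.conj c).toMonoidHom)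
      (by rintro _ ⟨x, hx, rfl⟩; exact map_le_range B.f _ (hc x hx))
      (by
        rintro _ ⟨_, ⟨a, ha, rfl⟩, rfl⟩ _ ⟨_, ⟨b, hb, rfl⟩, rfl⟩
        rw [← map_mul, ← map_mul, ← map_mul, ← map_mul, B.A_comm a ha b hb])
      (by
        rintro _ ⟨_, ⟨a, ha, rfl⟩, rfl⟩
        rw [← map_mul, ← map_mul, B.A_sq a ha, map_one, map_one])
      (by rw [card_map_of_injective (MulEquiv.injective _),
        hTdef, card_map_of_injective (MulEquiv.injective _), B.card_A])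
    refine m2 (UT.AS_facts.2.2.2.1 _ fun a ha => ?_)
    have h1 : B.f a ∈ T.map (MulAut.conj c).toMonoidHom := he ▸ mem_map_of_mem _ ha
    obtain ⟨x, hx, hxe⟩ := h1
    obtain ⟨u, hu, hue⟩ := hc x hx
    rw [← B.inj (hue.trans hxe)]
    exact (mem_centralizer_singleton_iff.1 hu).symm
  · -- fused with the other class outside `A`
    obtain ⟨m, hm⟩ : ∃ m : G, m * B.f UT.x12 * m⁻¹ = B.f UT.x34 :=
      ⟨B.f t * g⁻¹, by rw [← ht, B.conj_f, hs]; group⟩
    set T := (B.centS UT.x12).map (MulAut.conj m).toMonoidHom with hTdef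
    have hT : T ≤ centralizer ({B.f UT.x34} : Set G) := by
      rintro _ ⟨x, hx, rfl⟩
      refine mem_centralizer_singleton_iff.2 ?_
      show m * x * m⁻¹ * B.f UT.x34 = B.f UT.x34 * (m * x * m⁻¹)
      rw [← hm, conj_mul, conj_mul, mem_centralizer_singleton_iff.1 (B.centS_le _ hx)]
    obtain ⟨c, hc, hcT⟩ := syl _ m5 m3 T hT (by
      rw [hTdef, card_map_of_injective (MulEquiv.injective _), B.card_centS,
        (UT.outside_AS _ m4 m2).1])
    have hcm : ∀ x : UT, x * UT.x12 = UT.x12 * x → ∃ y : UT, y * UT.x34 = UT.x34 * y ∧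
        c * m * B.f x * (c * m)⁻¹ = B.f y := by
      intro x hx
      obtain ⟨y, hy, hye⟩ := hcT _ ⟨B.f x, mem_map_of_mem _ (mem_centralizer_singleton_iff.2 hx), rfl⟩
      refine ⟨y, mem_centralizer_singleton_iff.1 hy, ?_⟩
      rw [hye]
      show _ = c * (m * B.f x * m⁻¹) * c⁻¹
      group
    obtain ⟨-, a, ha, b, hb, hab⟩ := UT.comm_facts _ m4 m2
    obtain ⟨a', ha', hae⟩ := hcm a ha
    obtain ⟨b', hb', hbe⟩ := hcm b hb
    have h1 : c * m * B.z * (c * m)⁻¹ = B.f (a' * b' * a'⁻¹ * b'⁻¹) := by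
      rw [show B.z = B.f zs from rfl, ← hab, map_mul, map_mul, map_mul, map_inv, map_inv, map_mul,
        map_mul, map_mul, map_inv, map_inv, ← hae, ← hbe]
      group
    have hz : Commute (c * m) B.z := by
      refine mul_inv_eq_iff_eq_mul.1 ?_
      rcases (UT.comm_facts _ m5 m3).1 a' ha' b' hb' with e | e
      · rw [e, map_one, conj_eq_one_iff] at h1
        exact absurd (B.inj (h1.trans (map_one B.f).symm)) UT.zs_facts.1
      · rw [h1, e]; rfl
    obtain ⟨o, ho, u, hu⟩ := hsmall _ hz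
    have h2 : o * B.f (u * UT.x12 * u⁻¹) * o⁻¹ = B.f UT.x34 := by
      rw [B.conj_f, show o * (B.f u * B.f UT.x12 * (B.f u)⁻¹) * o⁻¹ =
        o * B.f u * B.f UT.x12 * (o * B.f u)⁻¹ by group, ← hu,
        show c * m * B.f UT.x12 * (c * m)⁻¹ = c * (m * B.f UT.x12 * m⁻¹) * c⁻¹ by group, hm,
        hc.eq, mul_inv_cancel_right]
    exact m8 u (B.eq_conj_mod ho h2)

/-- In the centralizer of `z`, an element normalizing `A` and centralizing its intersection with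
`Q` centralizes `A`. -/
theorem fix_AQ {g : G} (hgz : Commute g B.z) (hgA : g ∈ normalizer (B.A : Set G))
    (hfix : ∀ a ∈ AS, a ∈ QS → g * B.f a * g⁻¹ = B.f a) :
    ∀ a ∈ AS, g * B.f a * g⁻¹ = B.f a := by
  suffices h23 : g * B.f UT.x23 * g⁻¹ = B.f UT.x23 by
    intro a ha
    rcases UT.AS_split a ha with hq | ⟨hA, hQ⟩
    · exact hfix a ha hq
    · have e : a = a * UT.x23 * UT.x23 := by
        rw [mul_assoc, UT.AS_facts.2.1 _ UT.gen_mem.1, mul_one]
      rw [e, map_mul, ← conj_mul, hfix _ hA hQ, h23]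
  obtain ⟨a, b, rfl, ha, hb, hag, hbg⟩ := M12Type.exists_parts g
  have pow : ∀ y ∈ zpowers (a * b), Commute y B.z ∧ y ∈ normalizer (B.A : Set G) ∧
      ∀ q ∈ AS, q ∈ QS → y * B.f q * y⁻¹ = B.f q := by
    rintro _ ⟨k, rfl⟩
    refine ⟨hgz.zpow_left k, zpow_mem hgA k, fun q hq hqQ => ?_⟩
    have hc : Commute (a * b) (B.f q) := mul_inv_eq_iff_eq_mul.1 (hfix q hq hqQ)
    rw [(hc.zpow_left k).eq, mul_inv_cancel_right]
  obtain ⟨haz, haA, hafix⟩ := pow a hag
  obtain ⟨hbz, hbA, hbfix⟩ := pow b hbg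
  -- the odd part
  have hb23 : b * B.f UT.x23 * b⁻¹ = B.f UT.x23 := by
    obtain ⟨w, hw, hwe⟩ := (mem_normalizer_iff.1 hbA _).1 (mem_map_of_mem B.f UT.gen_mem.1)
    rcases UT.AS_split w hw with hwQ | ⟨hdA, hdQ⟩
    · have h1 := hbfix w hw hwQ
      have h3 : UT.x23 = w := B.inj (mul_left_cancel (mul_right_cancel (hwe.symm.trans h1.symm)))
      exact absurd (h3 ▸ hwQ) UT.gen_AQ.2.2.2.2
    generalize hd : w * UT.x23 = d at hdA hdQ
    have hw' : w = d * UT.x23 := by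
      rw [← hd, mul_assoc, UT.AS_facts.2.1 _ UT.gen_mem.1, mul_one]
    have hit : ∀ k : ℕ, b ^ k * B.f UT.x23 * (b ^ k)⁻¹ = B.f (d ^ k * UT.x23) := by
      intro k
      induction k with
      | zero => simp
      | succ k ih =>
        rw [pow_succ' b, show b * b ^ k * B.f UT.x23 * (b * b ^ k)⁻¹ =
          b * (b ^ k * B.f UT.x23 * (b ^ k)⁻¹) * b⁻¹ by group, ih, map_mul, ← conj_mul, ← hwe, hw',
          hbfix _ (pow_mem hdA k) (pow_mem hdQ k), ← map_mul, pow_succ, mul_assoc]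
    have h1 := hit (orderOf b)
    rw [pow_orderOf_eq_one, one_mul, inv_one, mul_one] at h1
    have hd1 : d = 1 := odd_pow_fix (by rw [sq]; exact UT.AS_facts.2.1 d hdA)
      (mul_eq_right.1 (B.inj h1).symm) hb rfl
    rw [← hwe, hw', hd1, one_mul]
  -- the 2-part
  have ha23 : a * B.f UT.x23 * a⁻¹ = B.f UT.x23 := by
    set H := centralizer ({B.z} : Set G) ⊓ normalizer (B.A : Set G) with hH
    have hrH : B.f.range ≤ H := le_inf B.range_le (by rintro _ ⟨r, rfl⟩; exact B.mem_normA r)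
    obtain ⟨c, hc, hcs⟩ := B.conj_into hrH ha
      (zpowers_le.2 ⟨mem_centralizer_singleton_iff.2 haz.eq, haA⟩)
    obtain ⟨r, hr⟩ := hcs a (mem_zpowers a)
    have hcz : Commute c B.z := mem_centralizer_singleton_iff.1 hc.1
    have hrq : ∀ q ∈ AS, q ∈ QS → r * q = q * r := by
      intro q hq hqQ
      obtain ⟨q', hq', he⟩ := B.normA_AQ h hcz.inv_left (inv_mem hc.2) hq hqQ
      obtain ⟨q'', hq'', he''⟩ :=
        (mem_normalizer_iff.1 (inv_mem hc.2) _).1 (mem_map_of_mem B.f hq)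
      obtain rfl := B.inj (he''.trans he.symm)
      have h1 := mul_inv_eq_iff_eq_mul.1 (hafix q'' hq'' hq')
      rw [he] at h1
      refine B.inj ?_
      rw [map_mul, map_mul, ← hr,
        show c * a * c⁻¹ * B.f q = c * (a * (c⁻¹ * B.f q * c⁻¹⁻¹)) * c⁻¹ by group, h1]
      group
    have hrA := UT.AQ_self r (hrq _ UT.gen_AQ.1 UT.gen_AQ.2.1) (hrq _ UT.gen_AQ.2.2.1 UT.gen_AQ.2.2.2.1)
    have hw := B.A_comm _ (mem_map_of_mem B.f hrA) _
      ((mem_normalizer_iff.1 hc.2 _).1 (mem_map_of_mem B.f UT.gen_mem.1))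
    rw [← hr, conj_mul, conj_mul] at hw
    exact mul_inv_eq_iff_eq_mul.2 (mul_left_cancel (mul_right_cancel hw))
  rw [show a * b * B.f UT.x23 * (a * b)⁻¹ = a * (b * B.f UT.x23 * b⁻¹) * a⁻¹ by group, hb23, ha23]

/-- The action on the intersection of `A` with `Q` of an element normalizing `A` in the centralizer
of `z`. -/
theorem normA_act {g : G} (hgz : Commute g B.z) (hgA : g ∈ normalizer (B.A : Set G)) :
    ∃ s : UT, ∃ j : Fin 3, (j ≠ 0 → B.Rot 0 1) ∧
      ∀ a ∈ AS, a ∈ QS → g * B.f a * g⁻¹ = B.f (s * rho 0 j a * s⁻¹) := by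
  obtain ⟨o, ho, s, n, ⟨hnz, i, j, hn⟩, rfl⟩ := B.exists_spl h hgz
  have key : ∀ a ∈ AS, a ∈ QS → rho i j a ∈ AS ∧
      o * B.f s * n * B.f a * (o * B.f s * n)⁻¹ = B.f (s * rho i j a * s⁻¹) := by
    intro a ha haQ
    obtain ⟨b, hb, he⟩ := (mem_normalizer_iff.1 hgA _).1 (mem_map_of_mem B.f ha)
    have h1 : o * B.f (s * rho i j a * s⁻¹) * o⁻¹ = B.f b := by
      rw [B.conj_f, ← hn a haQ, he]
      group
    have h2 := B.eq_conj_mod ho h1
    refine ⟨?_, by rw [h2, he]⟩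
    have h3 := UT.AS_facts.2.2.1 b hb s⁻¹
    rwa [← h2, show s⁻¹ * (s * rho i j a * s⁻¹) * s⁻¹⁻¹ = rho i j a by group] at h3
  obtain rfl : i = 0 := UT.rho_AS.1 i j fun x hx hxQ => (key x hx hxQ).1
  exact ⟨s, j, (B.rot_split (⟨n, hnz, hn⟩ : B.Rot 0 j)).2, fun a ha haQ => (key a ha haQ).2⟩

omit h in
/-- The core times the Sylow subgroup. -/
def coreS : Subgroup G where
  carrier := {g | ∃ o ∈ theta B.z, ∃ s : UT, g = o * B.f s}
  one_mem' := ⟨1, one_mem _, 1, by rw [map_one, one_mul]⟩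
  mul_mem' := by
    rintro _ _ ⟨o, ho, s, rfl⟩ ⟨o', ho', s', rfl⟩
    exact ⟨o * (B.f s * o' * (B.f s)⁻¹), mul_mem ho (theta_normal (B.comm_z s) ho'), s * s',
      by rw [map_mul]; group⟩
  inv_mem' := by
    rintro _ ⟨o, ho, s, rfl⟩
    exact ⟨(B.f s)⁻¹ * o⁻¹ * (B.f s)⁻¹⁻¹, theta_normal (B.comm_z s).inv_left (inv_mem ho), s⁻¹,
      by rw [map_inv]; group⟩

/-- An element realising the rotation commuting with `E23` can be chosen in the normalizer of `A`. -/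
theorem kap_exists (hr : B.Rot 0 1) : ∃ k : G, Commute k B.z ∧ k ∈ normalizer (B.A : Set G) ∧
    ∀ a ∈ AS, k * B.f a * k⁻¹ = B.f (kapTab a) := by
  obtain ⟨k0, hk0z, hk0⟩ := hr
  obtain ⟨-, -, -, -, -, h23, -, -⟩ := UT.QS_gen_invol
  -- the commutator with `E23` centralizes `Q`
  obtain ⟨o₁, ho₁, s₁, hs₁, hw⟩ := B.cent_Q h (w := k0 * B.f UT.x23 * k0⁻¹ * (B.f UT.x23)⁻¹)
    (((hk0z.mul_left (B.comm_z _)).mul_left hk0z.inv_left).mul_left (B.comm_z _).inv_left) (by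
      intro q hq
      refine mul_inv_eq_iff_eq_mul.1 ?_
      have h1 := B.acts_comp (B.acts_comp (B.acts_comp hk0 (B.acts_f UT.x23)
        (fun y hy => UT.QS_facts.2.2.1 y hy _)) (B.acts_inv_rho hk0) (UT.rho_mem _ _))
        (B.acts_f UT.x23⁻¹) (fun y hy => UT.QS_facts.2.2.1 y hy _) q hq
      rw [map_inv] at h1
      rw [h1]
      dsimp only
      rw [inv_eq_of_mul_eq_one_right h23,
        show UT.x23⁻¹ = UT.x23 from inv_eq_of_mul_eq_one_right h23]
      have hin := UT.rho_mem (-0) (-1) _ (UT.QS_facts.2.2.1 q hq UT.x23)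
      rw [show UT.x23⁻¹ = UT.x23 from inv_eq_of_mul_eq_one_right h23] at hin
      have h2 : UT.x23 * rho (-0) (-1) (UT.x23 * q * UT.x23) * UT.x23 = rho 0 (-1) q := by
        rw [UT.rho_conj _ _ q hq, neg_neg]
      rw [h2, UT.rho_add 0 1 0 (-1) q hq, add_zero, show (1 : Fin 3) + -1 = 0 by decide,
        UT.rho_zero q hq])
  have hk23 : k0 * B.f UT.x23 * k0⁻¹ = o₁ * B.f (s₁ * UT.x23) := by
    rw [mul_inv_eq_iff_eq_mul] at hw
    rw [hw, map_mul, mul_assoc]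
  -- move `A` back into itself
  have hsub : B.A.map (MulAut.conj k0).toMonoidHom ≤ B.coreS := by
    have hq : ∀ q ∈ QS, k0 * B.f q * k0⁻¹ ∈ B.coreS := fun q hq =>
      ⟨1, one_mem _, rho 0 1 q, by rw [one_mul, hk0 q hq]⟩
    rintro _ ⟨_, ⟨a, ha, rfl⟩, rfl⟩
    show k0 * B.f a * k0⁻¹ ∈ B.coreS
    rcases UT.AS_split a ha with haQ | ⟨-, haQ⟩
    · exact hq a haQ
    · have e : a = a * UT.x23 * UT.x23 := by rw [mul_assoc, h23, mul_one]
      rw [e, map_mul, ← conj_mul]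
      exact mul_mem (hq _ haQ) ⟨o₁, ho₁, _, hk23⟩
  obtain ⟨c, ⟨o, ho, s, rfl⟩, hcs⟩ := B.conj_into (H := B.coreS)
    (by rintro _ ⟨s, rfl⟩; exact ⟨1, one_mem _, s, (one_mul _).symm⟩)
    (IsPGroup.of_card (n := 4) (by
      rw [card_map_of_injective (MulEquiv.injective _), B.card_A]; norm_num)) hsub
  set o' := (B.f s)⁻¹ * o * B.f s with ho'def
  have ho' : o' ∈ theta B.z := by
    have := theta_normal (B.comm_z s).inv_left ho
    rwa [inv_inv] at this
  set k := o' * k0 with hk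
  have hkz : Commute k B.z :=
    (show Commute o' B.z from mem_centralizer_singleton_iff.1 (theta_le _ ho')).mul_left hk0z
  have hkA : k ∈ normalizer (B.A : Set G) := by
    have h1 : B.A.map (MulAut.conj (o * B.f s * k0)).toMonoidHom = B.A := by
      refine B.eq_A ?_ ?_ ?_ (by rw [card_map_of_injective (MulEquiv.injective _), B.card_A])
      · rintro _ ⟨a, ha, rfl⟩
        obtain ⟨r, hr⟩ := hcs _ (mem_map_of_mem (MulAut.conj k0).toMonoidHom ha)
        refine ⟨r, ?_⟩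
        rw [← hr]
        show o * B.f s * (k0 * a * k0⁻¹) * (o * B.f s)⁻¹ = o * B.f s * k0 * a * (o * B.f s * k0)⁻¹
        group
      · rintro _ ⟨a, ha, rfl⟩ _ ⟨b, hb, rfl⟩
        rw [← map_mul, ← map_mul, B.A_comm a ha b hb]
      · rintro _ ⟨a, ha, rfl⟩
        rw [← map_mul, B.A_sq a ha, map_one]
    rw [hk, ho'def, show (B.f s)⁻¹ * o * B.f s * k0 = (B.f s)⁻¹ * (o * B.f s * k0) by group]
    exact mul_mem (inv_mem (B.mem_normA s)) (mem_normalizer_iff_map_conj_eq.2 h1)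
  have hkQ : ∀ a ∈ AS, a ∈ QS → k * B.f a * k⁻¹ = B.f (rho 0 1 a) := by
    intro a ha haQ
    obtain ⟨b, -, he⟩ := (mem_normalizer_iff.1 hkA _).1 (mem_map_of_mem B.f ha)
    have h1 : o' * B.f (rho 0 1 a) * o'⁻¹ = B.f b := by rw [← hk0 a haQ, he, hk]; group
    rw [← he, ← B.eq_conj_mod ho' h1]
  have hkit : k * B.f UT.x23 * k⁻¹ = B.f UT.x23 := by
    obtain ⟨b, -, he⟩ := (mem_normalizer_iff.1 hkA _).1 (mem_map_of_mem B.f UT.gen_mem.1)
    have hb : s₁ * UT.x23 = b := by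
      refine B.eq_mod (o := o' * o₁ * (B.f (s₁ * UT.x23) * o'⁻¹ * (B.f (s₁ * UT.x23))⁻¹))
        (mul_mem (mul_mem ho' ho₁) (theta_normal (B.comm_z _) (inv_mem ho'))) ?_
      rw [he, hk, show o' * k0 * B.f UT.x23 * (o' * k0)⁻¹ = o' * (k0 * B.f UT.x23 * k0⁻¹) * o'⁻¹
        by group, hk23]
      group
    simp only [List.mem_cons, List.not_mem_nil, or_false] at hs₁
    rcases hs₁ with rfl | rfl
    · rw [← he, ← hb, one_mul]
    exfalso
    have h3Q : ∀ a ∈ AS, a ∈ QS → k ^ 3 * B.f a * (k ^ 3)⁻¹ = B.f a := by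
      intro a ha haQ
      have e1 := UT.rho_AS.2 1 a ha haQ
      have e2 := UT.rho_mem 0 1 a haQ
      rw [cube_conj,
        hkQ a ha haQ, hkQ _ e1 e2, hkQ _ (UT.rho_AS.2 1 _ e1 e2) (UT.rho_mem _ _ _ e2),
        UT.rho_add 0 1 0 1 a haQ, UT.rho_add 0 1 _ _ a haQ,
        show (1 : Fin 3) + (1 + 1) = 0 by decide, add_zero, add_zero, UT.rho_zero a haQ]
    have h3 := B.fix_AQ h (hkz.pow_left 3) (pow_mem hkA 3) h3Q _ UT.gen_mem.1
    have hzk : k * B.f zs * k⁻¹ = B.f zs := by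
      show k * B.z * k⁻¹ = B.z
      rw [hkz.eq, mul_inv_cancel_right]
    have hstep : k * B.f UT.x23 * k⁻¹ = B.f zs * B.f UT.x23 := by rw [← he, ← hb, map_mul]
    have hstep2 : k * (B.f zs * B.f UT.x23) * k⁻¹ = B.f UT.x23 := by
      rw [← conj_mul, hzk, hstep, ← mul_assoc, ← map_mul, UT.zs_facts.2.1, map_one, one_mul]
    rw [cube_conj, hstep, hstep2, hstep, mul_eq_right] at h3
    exact UT.zs_facts.1 (B.inj (h3.trans (map_one B.f).symm))
  refine ⟨k, hkz, hkA, fun a ha => ?_⟩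
  obtain ⟨kk1, kk2, kk3, -, -⟩ := UT.kap_facts
  by_cases haQ : a ∈ QS
  · rw [hkQ a ha haQ, kk2 a ha haQ]
  · obtain ⟨hA', hQ'⟩ := (UT.AS_split a ha).resolve_left haQ
    rw [kk3 a ha haQ, kk2 _ hA' hQ', map_mul, ← hkQ _ hA' hQ', ← hkit,
      conj_mul, ← map_mul, mul_assoc a, UT.AS_facts.2.1 _ UT.gen_mem.1, mul_one]

theorem stabS (hr : ¬ B.Rot 0 1) : B.StabS := by
  intro g hgz hgA
  obtain ⟨s, j, hj, hact⟩ := B.normA_act h hgz hgA
  obtain rfl : j = 0 := by_contra fun e => hr (hj e)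
  refine ⟨s, fun a ha => ?_⟩
  have h1 : ∀ a ∈ AS, (B.f s)⁻¹ * g * B.f a * ((B.f s)⁻¹ * g)⁻¹ = B.f a :=
    B.fix_AQ h ((B.comm_z s).inv_left.mul_left hgz) (mul_mem (inv_mem (B.mem_normA s)) hgA)
      fun q hq hqQ => by
        rw [show (B.f s)⁻¹ * g * B.f q * ((B.f s)⁻¹ * g)⁻¹ =
          (B.f s)⁻¹ * (g * B.f q * g⁻¹) * B.f s by group, hact q hq hqQ, UT.rho_zero q hqQ, B.conj_f]
        group
  rw [B.conj_f]
  nth_rewrite 2 [← h1 a ha]
  group

theorem stabK (hr : B.Rot 0 1) : B.StabK := by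
  obtain ⟨k, hkz, hkA, hk⟩ := B.kap_exists h hr
  refine ⟨⟨k, hkz, hkA, hk⟩, fun g hgz hgA => ?_⟩
  obtain ⟨s, j, -, hact⟩ := B.normA_act h hgz hgA
  have hit : ∀ (i : ℕ), ∀ a ∈ AS, kapTab^[i] a ∈ AS ∧
      k ^ i * B.f a * (k ^ i)⁻¹ = B.f (kapTab^[i] a) := by
    intro i
    induction i with
    | zero => intro a ha; exact ⟨ha, by simp⟩
    | succ i ih =>
      intro a ha
      obtain ⟨h1, h2⟩ := ih a ha
      rw [Function.iterate_succ_apply', pow_succ']
      refine ⟨UT.kap_facts.2.2.2.1 _ h1, ?_⟩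
      rw [show k * k ^ i * B.f a * (k * k ^ i)⁻¹ = k * (k ^ i * B.f a * (k ^ i)⁻¹) * k⁻¹ by group,
        h2, hk _ h1]
  refine ⟨s, j, fun a ha => ?_⟩
  set w := B.f s * k ^ (j : ℕ) with hw
  have h1 : ∀ a ∈ AS, w⁻¹ * g * B.f a * (w⁻¹ * g)⁻¹ = B.f a :=
    B.fix_AQ h (((B.comm_z s).mul_left (hkz.pow_left _)).inv_left.mul_left hgz)
      (mul_mem (inv_mem (mul_mem (B.mem_normA s) (pow_mem hkA _))) hgA)
      fun q hq hqQ => by
        rw [show w⁻¹ * g * B.f q * (w⁻¹ * g)⁻¹ = w⁻¹ * (g * B.f q * g⁻¹) * w by group,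
          hact q hq hqQ, ← UT.kap_facts.2.2.2.2 j q hq hqQ, B.conj_f, ← (hit j q hq).2, hw]
        group
  rw [B.conj_f, ← (hit j a ha).2]
  nth_rewrite 2 [← h1 a ha]
  rw [hw]
  group

end Base

end Cfsg.Agent.A8Type
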