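import Cfsg.Agent.A8Type.Basic
import Cfsg.Agent.Core.PCore
import Cfsg.Agent.Invol.Count
import Cfsg.Agent.Coprime.Generation
import Cfsg.Agent.S0018

/-!
In the centralizer of the central involution the normalizer of the elementary abelian subgroup of
order sixteen preserves its intersection with the extraspecial subgroup, so no involution outside the
extraspecial subgroup is fused into it.
-/

set_option autoImplicit false
set_option maxRecDepth 8000

namespace Cfsg.Agent.A8Type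

open Subgroup

namespace UT

theorem act_comm : ∀ s t : UT, ∀ a : UT, a ∈ AS → s * (t * a * t⁻¹) * s⁻¹ = t * (s * a * s⁻¹) * t⁻¹ := by
  have h : ∀ s t : UT, (s * t)⁻¹ * (t * s) ∈ AS := by decide +kernel
  intro s t a ha
  have h2 := AS_facts.1 _ (h s t) a ha
  calc s * (t * a * t⁻¹) * s⁻¹ = s * t * a * (s * t)⁻¹ := by group
    _ = s * t * (a * ((s * t)⁻¹ * (t * s))) * (t * s)⁻¹ := by group
    _ = s * t * ((s * t)⁻¹ * (t * s) * a) * (t * s)⁻¹ := by rw [h2]
    _ = t * (s * a * s⁻¹) * t⁻¹ := by group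

theorem act_sq : ∀ s : UT, s * s ∈ AS := by decide +kernel

/-- The fixed points of an element outside the elementary abelian subgroup: two cosets of the
centre. -/
theorem fixed_four : ∀ s : UT, s ∉ AS → ∀ a : UT, (a ∈ AS ∧ s * a = a * s) →
    ∀ b : UT, (b ∈ AS ∧ s * b = b * s) → a = 1 ∨ a = zs ∨ b = 1 ∨ b = zs ∨ b = a ∨ b = a * zs := by
  decide +kernel

theorem comm_fixed : ∀ s : UT, ∀ a : UT, a ∈ AS → s * a * s⁻¹ * a ∈ AS ⊓ QS ∧
    s * (s * a * s⁻¹ * a) = (s * a * s⁻¹ * a) * s := by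
  have h : ∀ s : UT, ∀ a : UT, a ∈ AS → (s * a * s⁻¹ * a ∈ AS ∧ s * a * s⁻¹ * a ∈ QS) ∧
      s * (s * a * s⁻¹ * a) = (s * a * s⁻¹ * a) * s := by decide +kernel
  exact fun s a ha => ⟨⟨(h s a ha).1.1, (h s a ha).1.2⟩, (h s a ha).2⟩

theorem AQ_gen : ∀ w : UT, w ∈ AS → w ∈ QS → ∃ i : Fin 4, ∃ j : Fin 4,
    w = [1, x12, x34, x12 * x34].getD i 1 * x23 * ([1, x12, x34, x12 * x34].getD i 1)⁻¹ * x23 *
      ([1, x12, x34, x12 * x34].getD j 1 * x24 * ([1, x12, x34, x12 * x34].getD j 1)⁻¹ * x24) := by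
  decide +kernel

theorem gen_mem : x23 ∈ AS ∧ x24 ∈ AS := by decide +kernel

end UT

theorem odd_pow_fix {α : Type*} [Group α] {e g : α} {m : ℕ} (he : e ^ 2 = 1)
    (h : g ^ m = 1) (hm : ¬ 2 ∣ m) (hg : g = e) : g = 1 := by
  obtain ⟨j, rfl⟩ : ∃ j, m = 2 * j + 1 := ⟨m / 2, by omega⟩
  subst hg
  rwa [pow_succ, pow_mul, he, one_pow, one_mul] at h

namespace Base

variable {G : Type*} [Group G] [Finite G] (B : Base G)

/-- The action of an element of the model on the elementary abelian subgroup commutes with another. -/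
theorem conj_f_comm {s t a : UT} (ha : a ∈ AS) :
    B.f s * (B.f t * B.f a * (B.f t)⁻¹) * (B.f s)⁻¹ = B.f t * (B.f s * B.f a * (B.f s)⁻¹) * (B.f t)⁻¹ := by
  rw [← B.conj_f, ← B.conj_f, ← B.conj_f, ← B.conj_f, UT.act_comm s t a ha]

variable (h : B.Simp)
include h

/-- An element of odd order in the centralizer of `z` normalising `A` and commuting in its action
with an element of the model outside `A` acts trivially. -/
theorem odd_trivial {g : G} (hgz : Commute g B.z) (hgA : g ∈ normalizer (B.A : Set G)) {s : UT}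
    (hs : s ∉ AS) {m : ℕ} (hm : ¬ 2 ∣ m) (hgm : ∀ a ∈ AS, g ^ m * B.f a * (g ^ m)⁻¹ = B.f a)
    (hcomm : ∀ a ∈ AS, g * (B.f s * B.f a * (B.f s)⁻¹) * g⁻¹ = B.f s * (g * B.f a * g⁻¹) * (B.f s)⁻¹) :
    ∀ a ∈ AS, g * B.f a * g⁻¹ = B.f a := by
  have himg : ∀ a ∈ AS, ∃ b ∈ AS, g * B.f a * g⁻¹ = B.f b := by
    intro a ha
    obtain ⟨b, hb, he⟩ := (mem_normalizer_iff.1 hgA _).1 (mem_map_of_mem B.f ha)
    exact ⟨b, hb, he.symm⟩
  have hz : g * B.f zs * g⁻¹ = B.f zs := by
    show g * B.z * g⁻¹ = B.z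
    rw [hgz.eq, mul_inv_cancel_right]
  -- fixed elements of `s` are fixed
  have hfix : ∀ a ∈ AS, s * a = a * s → g * B.f a * g⁻¹ = B.f a := by
    intro a ha hsa
    obtain ⟨b, hb, he⟩ := himg a ha
    have hsb : s * b = b * s := by
      have h1 := hcomm a ha
      rw [he, ← B.conj_f, ← B.conj_f, hsa, mul_inv_cancel_right, he] at h1
      exact mul_inv_eq_iff_eq_mul.1 (B.inj h1).symm
    have hcase := UT.fixed_four s hs a ⟨ha, hsa⟩ b ⟨hb, hsb⟩
    have hb1 : b = 1 → a = 1 := fun e => B.inj (by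
      rw [e, map_one, conj_eq_one_iff] at he; rw [he, map_one])
    have hbz : b = zs → a = zs := fun e => B.inj (by
      rw [e] at he; exact mul_left_cancel (mul_right_cancel (he.trans hz.symm)))
    rcases hcase with e | e | e | e | e | e
    · rw [e, map_one]; group
    · rw [e]; exact hz
    · rw [hb1 e, map_one]; group
    · rw [hbz e]; exact hz
    · rw [he, e]
    · -- an element of odd order cannot exchange two points
      have hit : ∀ j : ℕ, g ^ (2 * j + 1) * B.f a * (g ^ (2 * j + 1))⁻¹ = B.f b := by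
        intro j
        induction j with
        | zero => simpa using he
        | succ j ih =>
          have hzb : g * B.f b * g⁻¹ = B.f a := by
            rw [e, map_mul, ← conj_mul, he, hz, ← map_mul, e, mul_assoc, ← sq,
              show zs ^ 2 = 1 by rw [sq]; exact UT.zs_facts.2.1, mul_one]
          calc g ^ (2 * (j + 1) + 1) * B.f a * (g ^ (2 * (j + 1) + 1))⁻¹
              = g * (g * (g ^ (2 * j + 1) * B.f a * (g ^ (2 * j + 1))⁻¹) * g⁻¹) * g⁻¹ := by
                rw [show 2 * (j + 1) + 1 = (2 * j + 1) + 1 + 1 by ring, pow_succ', pow_succ']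
                group
            _ = B.f b := by rw [ih, hzb, he]
      obtain ⟨j, rfl⟩ : ∃ j, m = 2 * j + 1 := ⟨m / 2, by omega⟩
      rw [he, ← hit j, hgm a ha]
  intro a ha
  obtain ⟨b, hb, he⟩ := himg a ha
  set c := s * a * s⁻¹ * a with hc
  obtain ⟨⟨hcA, -⟩, hsc⟩ := UT.comm_fixed s a ha
  have ha2 : a * a = 1 := UT.AS_facts.2.1 a ha
  have hb2 : b * b = 1 := UT.AS_facts.2.1 b hb
  set e := b * a with he'
  have heA : e ∈ AS := mul_mem hb ha
  have hse : s * e = e * s := by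
    have h1 := hfix c hcA hsc
    rw [hc, map_mul, ← conj_mul, B.conj_f, hcomm a ha, he, ← B.conj_f, ← B.conj_f, ← map_mul,
      ← map_mul] at h1
    have h2 : s * b * s⁻¹ = s * a * s⁻¹ * (a * b) := by
      calc s * b * s⁻¹ = s * b * s⁻¹ * b * b := by rw [mul_assoc _ b b, hb2, mul_one]
        _ = s * a * s⁻¹ * (a * b) := by rw [B.inj h1]; group
    have h3 : s * e * s⁻¹ = e := by
      calc s * e * s⁻¹ = s * b * s⁻¹ * (s * a * s⁻¹) := by rw [he']; group
        _ = s * a * s⁻¹ * (a * b) * (s * a * s⁻¹) := by rw [h2]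
        _ = s * a * s⁻¹ * ((s * a * s⁻¹) * (a * b)) := by
            rw [mul_assoc _ (a * b), UT.AS_facts.1 _ (mul_mem ha hb) _
              (UT.AS_facts.2.2.1 a ha s)]
        _ = e := by
            rw [← mul_assoc, show s * a * s⁻¹ * (s * a * s⁻¹) = s * (a * a) * s⁻¹ by group, ha2,
              he', UT.AS_facts.1 a ha b hb]
            group
    exact mul_inv_eq_iff_eq_mul.1 h3
  have hbe : b = e * a := by rw [he', mul_assoc, ha2, mul_one]
  have hge := hfix e heA hse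
  have hit : ∀ j : ℕ, g ^ j * B.f a * (g ^ j)⁻¹ = B.f (e ^ j * a) := by
    intro j
    induction j with
    | zero => simp
    | succ j ih =>
      rw [pow_succ' g, show g * g ^ j * B.f a * (g * g ^ j)⁻¹ =
        g * (g ^ j * B.f a * (g ^ j)⁻¹) * g⁻¹ by group, ih, map_mul, ← conj_mul, map_pow,
        ← conj_pow, hge, he, ← map_pow, ← map_mul, hbe, ← mul_assoc, ← pow_succ]
  have hem : e ^ m = 1 := by
    have := (hit m).symm.trans (hgm a ha)
    exact mul_eq_right.1 (B.inj this)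
  have he1 : e = 1 := odd_pow_fix (by rw [sq]; exact UT.AS_facts.2.1 e heA) hem hm rfl
  rw [he, hbe, he1, one_mul]

/-- In the centralizer of `z`, conjugation by an element normalising `A` carries the action of the
model on `A` to itself. -/
theorem stab_U {g : G} (hgz : Commute g B.z) (hgA : g ∈ normalizer (B.A : Set G)) (s : UT) :
    ∃ t : UT, ∀ a ∈ AS, g * (B.f s * (g⁻¹ * B.f a * g) * (B.f s)⁻¹) * g⁻¹ = B.f t * B.f a * (B.f t)⁻¹ := by
  classical
  haveI : Fact (Nat.Prime 2) := ⟨Nat.prime_two⟩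
  set H := normalizer (B.A : Set G) ⊓ centralizer ({B.z} : Set G) with hH
  have hrH : B.f.range ≤ H := by
    refine le_inf ?_ B.range_le
    rintro _ ⟨r, rfl⟩
    refine mem_normalizer_iff_map_conj_eq.2 (eq_of_le_of_card_ge ?_ ?_)
    · rintro _ ⟨_, ⟨a, ha, rfl⟩, rfl⟩
      exact ⟨r * a * r⁻¹, UT.AS_facts.2.2.1 a ha r, B.conj_f r a⟩
    · rw [card_map_of_injective (MulEquiv.injective _)]
  haveI : Group.IsSolvable ↥(centralizer ({B.z} : Set G)) := h.solvable
  haveI : Group.IsSolvable H :=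
    Group.isSolvable_of_isSolvable_injective (f := inclusion (inf_le_right : H ≤ _)) (inclusion_injective _)
  let ψ : H →* MulAut B.A := (normalizerMonoidHom B.A).comp (inclusion inf_le_left)
  have hψ : ∀ (k : H) (a : B.A), ((ψ k a : B.A) : G) = (k : G) * a * (k : G)⁻¹ := fun k a => rfl
  haveI : Group.IsSolvable ψ.range := Group.isSolvable_of_surjective ψ.rangeRestrict_surjective
  let fH : UT →* H := B.f.codRestrict H fun r => hrH ⟨r, rfl⟩
  let u : UT →* ψ.range := ψ.rangeRestrict.comp fH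
  obtain ⟨S, hS⟩ := B.sylow
  let P : Sylow 2 ψ.range :=
    (S.subtype (hS.le.trans hrH)).mapSurjective ψ.rangeRestrict_surjective
  have hP : (P : Subgroup ψ.range) = u.range := by
    rw [Sylow.coe_mapSurjective, Sylow.coe_subtype, hS]
    ext y
    constructor
    · rintro ⟨x, ⟨r, hr⟩, rfl⟩
      exact ⟨r, congrArg ψ.rangeRestrict (Subtype.ext hr)⟩
    · rintro ⟨r, rfl⟩
      exact ⟨fH r, ⟨r, rfl⟩, rfl⟩
  have hext : ∀ {y y' : ψ.range}, (∀ a : B.A, ((y : MulAut B.A) a : G) = ((y' : MulAut B.A) a : G)) →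
      y = y' := fun {y y'} e => Subtype.ext (MulEquiv.ext fun a => Subtype.ext (e a))
  have hu : ∀ r : UT, ∀ a : B.A, (((u r : ψ.range) : MulAut B.A) a : G) = B.f r * a * (B.f r)⁻¹ :=
    fun r a => rfl
  have hucomm : ∀ r r' : UT, u r * u r' = u r' * u r := by
    intro r r'
    refine hext fun a => ?_
    obtain ⟨b, hb, hbe⟩ := a.2
    show B.f r * (B.f r' * a * (B.f r')⁻¹) * (B.f r)⁻¹ = B.f r' * (B.f r * a * (B.f r)⁻¹) * (B.f r')⁻¹
    rw [← hbe]
    exact B.conj_f_comm hb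
  haveI hPc : IsMulCommutative (P : Subgroup ψ.range) := by
    refine ⟨⟨?_⟩⟩
    rintro ⟨a, ha⟩ ⟨b, hb⟩
    rw [hP] at ha hb
    obtain ⟨r, rfl⟩ := ha
    obtain ⟨r', rfl⟩ := hb
    exact Subtype.ext (hucomm r r')
  -- the four-group generated by the images is not cyclic
  have hsq : ∀ y ∈ (P : Subgroup ψ.range), y * y = 1 := by
    intro y hy
    rw [hP] at hy
    obtain ⟨r, rfl⟩ := hy
    rw [← map_mul]
    refine hext fun a => ?_
    obtain ⟨b, hb, hbe⟩ := a.2
    show B.f (r * r) * a * (B.f (r * r))⁻¹ = a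
    rw [← hbe, ← B.conj_f, UT.AS_facts.1 _ (UT.act_sq r) b hb, mul_inv_cancel_right]
  have huA : ∀ r : UT, u r = 1 → r ∈ AS := by
    intro r hr
    refine UT.AS_facts.2.2.2.1 r fun a ha => mul_inv_eq_iff_eq_mul.1 (B.inj ?_)
    have h1 := congrArg (fun y : ψ.range => (((y : MulAut B.A) ⟨B.f a, mem_map_of_mem _ ha⟩ : B.A) : G)) hr
    rw [B.conj_f]
    exact h1
  have hncyc : ¬ IsCyclic (P : Subgroup ψ.range) := by
    intro hcy
    have hne : ∀ r : UT, r ∉ AS → orderOf (u r) = 2 := fun r hr =>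
      Invol.orderOf_eq_two_iff.2 ⟨fun e => hr (huA r e), hsq _ (hP ▸ ⟨r, rfl⟩)⟩
    have hmem : ∀ r : UT, u r ∈ (P : Subgroup ψ.range) := fun r => hP ▸ ⟨r, rfl⟩
    have h12 : UT.x12 ∉ AS ∧ UT.x34 ∉ AS ∧ UT.x12 * UT.x34 ∉ AS := by decide +kernel
    have he := Invol.eq_of_isCyclic_of_orderOf_two hcy (hne _ h12.1) (hne _ h12.2.1) (hmem _) (hmem _)
    refine h12.2.2 (huA _ ?_)
    rw [map_mul, he, hsq _ (hmem _)]
  -- the core is trivial
  set O := pPrimeCore 2 ψ.range with hO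
  have hOn : O.Normal := Core.pPrimeCore_normal
  have hodd : ¬ 2 ∣ Nat.card O := Core.not_dvd_card_pPrimeCore
  have hObot : O = ⊥ := by
    rw [← Coprime.iSup_centralizer_eq (A := (P : Subgroup ψ.range)) (K := O) hncyc
      le_normalizer_of_normal ?_]
    · refine eq_bot_iff.2 (iSup₂_le fun y hy' o ho' => ?_)
      obtain ⟨hy, hy1⟩ := hy'
      obtain ⟨ho, hoy⟩ := ho'
      rw [hP] at hy
      obtain ⟨r, rfl⟩ := hy
      have hrA : r ∉ AS := fun hr => hy1 (hext fun a => by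
        obtain ⟨b, hb, hbe⟩ := a.2
        show B.f r * a * (B.f r)⁻¹ = a
        rw [← hbe, ← B.conj_f, UT.AS_facts.1 r hr b hb, mul_inv_cancel_right])
      obtain ⟨k, hk⟩ := ψ.rangeRestrict_surjective o
      have hkz : Commute (k : G) B.z := mem_centralizer_singleton_iff.1 k.2.2
      have hact : ∀ a ∈ AS, (k : G) * B.f a * (k : G)⁻¹ = B.f a := by
        refine B.odd_trivial h hkz k.2.1 hrA (m := orderOf o) (fun h2 => hodd
          (h2.trans (Subgroup.orderOf_dvd_natCard O ho))) (fun a ha => ?_) (fun a ha => ?_)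
        · have h1 : ψ.rangeRestrict (k ^ orderOf o) = 1 := by rw [map_pow, hk, pow_orderOf_eq_one]
          have h2 := congrArg (fun y : ψ.range =>
            (((y : MulAut B.A) ⟨B.f a, mem_map_of_mem _ ha⟩ : B.A) : G)) h1
          exact h2
        · have h1 : ψ.rangeRestrict k * u r = u r * ψ.rangeRestrict k := by
            rw [hk]; exact mem_centralizer_singleton_iff.1 hoy
          exact congrArg (fun y : ψ.range =>
            (((y : MulAut B.A) ⟨B.f a, mem_map_of_mem _ ha⟩ : B.A) : G)) h1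
      rw [mem_bot, ← hk]
      refine hext fun a => ?_
      obtain ⟨b, hb, hbe⟩ := a.2
      show (k : G) * a * (k : G)⁻¹ = a
      rw [← hbe]
      exact hact b hb
    · obtain ⟨j, hj⟩ := IsPGroup.iff_card.1 P.2
      rw [hj]
      exact (Nat.prime_two.coprime_iff_not_dvd.2 hodd).pow_left j
  have hPn : (P : Subgroup ψ.range).Normal := by
    have := S0018.result 2 P hPc
    rwa [show pPrimeCore 2 ψ.range = ⊥ from hObot, sup_bot_eq] at this
  let k : H := ⟨g, hgA, mem_centralizer_singleton_iff.2 hgz.eq⟩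
  have hc : ψ.rangeRestrict k * u s * (ψ.rangeRestrict k)⁻¹ ∈ (P : Subgroup ψ.range) :=
    hPn.conj_mem _ (hP ▸ ⟨s, rfl⟩) _
  rw [hP] at hc
  obtain ⟨t, ht⟩ := hc
  refine ⟨t, fun a ha => ?_⟩
  have h1 : u t * ψ.rangeRestrict k = ψ.rangeRestrict k * u s := by
    rw [ht, inv_mul_cancel_right]
  obtain ⟨b, hb, hbe⟩ := (mem_normalizer_iff''.1 hgA (B.f a)).1 (mem_map_of_mem _ ha)
  have h2 := congrArg (fun y : ψ.range =>
    (((y : MulAut B.A) ⟨B.f b, mem_map_of_mem _ hb⟩ : B.A) : G)) h1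
  replace h2 : B.f t * (g * B.f b * g⁻¹) * (B.f t)⁻¹ = g * (B.f s * B.f b * (B.f s)⁻¹) * g⁻¹ := h2
  rw [hbe] at h2
  rw [← h2]
  group

/-- In the centralizer of `z` the normalizer of `A` preserves the intersection with `Q`. -/
theorem normA_AQ {g : G} (hgz : Commute g B.z) (hgA : g ∈ normalizer (B.A : Set G)) {w : UT}
    (hwA : w ∈ AS) (hwQ : w ∈ QS) : g * B.f w * g⁻¹ ∈ B.Q := by
  have hcm : ∀ s a : UT, a ∈ AS → g * B.f (s * a * s⁻¹ * a) * g⁻¹ ∈ B.Q := by
    intro s a ha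
    obtain ⟨t, ht⟩ := B.stab_U h hgz hgA s
    obtain ⟨b, hb, hbe⟩ := (mem_normalizer_iff.1 hgA (B.f a)).1 (mem_map_of_mem _ ha)
    have h0 := ht b hb
    have h2 : g * B.f (s * a * s⁻¹) * g⁻¹ = B.f (t * b * t⁻¹) := by
      rw [B.conj_f s a, B.conj_f t b, hbe]
      rw [hbe] at h0
      rw [show g⁻¹ * (g * B.f a * g⁻¹) * g = B.f a by group] at h0
      exact h0
    rw [map_mul, ← conj_mul, h2, ← hbe, ← map_mul]
    exact B.mem_Q.2 (UT.comm_fixed t b hb).1.2
  obtain ⟨i, j, e⟩ := UT.AQ_gen w hwA hwQ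
  rw [e, map_mul, ← conj_mul]
  exact mul_mem (hcm _ _ UT.gen_mem.1) (hcm _ _ UT.gen_mem.2)

end Base

end Cfsg.Agent.A8Type
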