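import Cfsg.Agent.A8Type.Cz.Fuse
import Cfsg.Agent.M12Type.CentQuot
import Cfsg.Agent.TwoTransfer.Basic

/-!
The centralizer of the central involution maps onto a group of order two with kernel meeting the Sylow
subgroup in the extraspecial subgroup.
-/

set_option autoImplicit false
set_option maxRecDepth 8000

namespace Cfsg.Agent.A8Type

open Subgroup

namespace UT

theorem out_QS : ∀ s : UT, s * s = 1 → s ∉ QS → s ∈ AS ∧ cc s = 16 := by decide +kernel

theorem AS_cc : ∀ s : UT, s ∈ AS → 32 ≤ cc s → s ∈ QS := by decide +kernel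

theorem QS_invol : ∀ q : UT, q ∈ QS → q * q = 1 → q = 1 ∨ q = zs ∨ cc q = 32 ∨
    (cc q = 16 ∧ ∃ a b : UT, a * q = q * a ∧ b * q = q * b ∧ a * b ≠ b * a) := by
  decide +kernel

theorem QS_gen_invol : x12 * x12 = 1 ∧ x34 * x34 = 1 ∧ x13 * x13 = 1 ∧ x24 * x24 = 1 ∧
    (x12 ∈ QS ∧ x34 ∈ QS ∧ x13 ∈ QS ∧ x24 ∈ QS) ∧ x23 * x23 = 1 ∧ x23 ∉ QS ∧
    ∀ q : UT, q ∈ QS → ∃ a : Fin 2, ∃ b : Fin 2, ∃ c : Fin 2, ∃ d : Fin 2, ∃ e : Fin 2,
      q = x12 ^ (a : ℕ) * x34 ^ (b : ℕ) * x13 ^ (c : ℕ) * x24 ^ (d : ℕ) *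
        (x12 * x24 * x12 * x24) ^ (e : ℕ) := by
  refine ⟨by decide +kernel, by decide +kernel, by decide +kernel, by decide +kernel,
    by decide +kernel, by decide +kernel, by decide +kernel, by decide +kernel⟩

end UT

namespace Base

variable {G : Type*} [Group G] [Finite G] (B : Base G) (h : B.Simp)
include h

/-- An involution of the model outside `Q` is not conjugate into `Q` in the centralizer of `z`. -/
theorem not_fuse {g : G} (hg : Commute g B.z) {s q : UT} (hs : s * s = 1) (hsQ : s ∉ QS)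
    (hq : q ∈ QS) : g * B.f s * g⁻¹ ≠ B.f q := by
  haveI : Fact (Nat.Prime 2) := ⟨Nat.prime_two⟩
  intro he
  obtain ⟨hsA, hs16⟩ := UT.out_QS s hs hsQ
  set H := centralizer ({B.z} : Set G) with hH
  have hsH : B.f s ∈ H := B.range_le ⟨s, rfl⟩
  set r : H := ⟨B.f s, hsH⟩ with hr
  set T : Subgroup H := B.A.subgroupOf H with hT
  have hAH : B.A ≤ H := B.A_le_range.trans B.range_le
  have hT16 : Nat.card T = 2 ^ 4 := by
    rw [hT, Nat.card_congr (subgroupOfEquivOfLe hAH).toEquiv, B.card_A]; norm_num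
  have hTr : T ≤ centralizer ({r} : Set H) := fun a ha => mem_centralizer_singleton_iff.2
    (Subtype.ext (B.A_comm _ ha _ (mem_map_of_mem _ hsA)))
  have h32 : ¬ 2 ^ (4 + 1) ∣ Nat.card (centralizer ({r} : Set H)) := by
    intro hdvd
    obtain ⟨K, hKr, hK, hTK, hKT⟩ := grow hT16 hTr hdvd
    obtain ⟨c, hc, hcs⟩ := B.conj_into B.range_le ((IsPGroup.of_card hK).map H.subtype)
      (map_subtype_le K)
    set c' : G := c
    have hcA : c' ∈ normalizer (B.A : Set G) := by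
      refine mem_normalizer_iff_map_conj_eq.2 (B.eq_A ?_ ?_ ?_ ?_)
      · rintro _ ⟨a, ha, rfl⟩
        obtain ⟨t, ht⟩ := hcs _ (mem_map_of_mem H.subtype (hTK (show (⟨a, hAH ha⟩ : H) ∈ T from
          mem_subgroupOf.2 ha)))
        exact ⟨t, ht.symm⟩
      · rintro _ ⟨a, ha, rfl⟩ _ ⟨b, hb, rfl⟩
        rw [← map_mul, ← map_mul, B.A_comm a ha b hb]
      · rintro _ ⟨a, ha, rfl⟩
        rw [← map_mul, B.A_sq a ha, map_one]
      · rw [card_map_of_injective (MulEquiv.injective _), B.card_A]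
    obtain ⟨v, hv, hve⟩ := (mem_normalizer_iff.1 hcA _).1 (mem_map_of_mem B.f hsA)
    have hcz : Commute c' B.z := mem_centralizer_singleton_iff.1 hc
    have hvcc : 32 ≤ UT.cc v := by
      have hle : (K.map H.subtype).map (MulAut.conj c').toMonoidHom ≤ B.centS v := by
        rintro _ ⟨_, ⟨x, hx, rfl⟩, rfl⟩
        obtain ⟨t, ht⟩ := hcs _ (mem_map_of_mem H.subtype hx)
        refine ⟨t, mem_centralizer_singleton_iff.2 (B.inj ?_), ht.symm⟩
        have hxr : (x : G) * B.f s = B.f s * x :=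
          congrArg Subtype.val (mem_centralizer_singleton_iff.1 (hKr hx))
        rw [map_mul, map_mul, ← ht, hve]
        calc c' * (x : G) * c'⁻¹ * (c' * B.f s * c'⁻¹) = c' * ((x : G) * B.f s) * c'⁻¹ := by group
          _ = c' * B.f s * c'⁻¹ * (c' * (x : G) * c'⁻¹) := by rw [hxr]; group
      have := card_le_of_le hle
      rw [card_map_of_injective (MulEquiv.injective _), card_map_of_injective H.subtype_injective,
        hK, B.card_centS] at this
      norm_num at this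
      exact this
    have hvQ := UT.AS_cc v hv hvcc
    have h1 := B.normA_AQ h hcz.inv_left (inv_mem hcA) hv hvQ
    rw [hve, show c'⁻¹ * (c' * B.f s * c'⁻¹) * c'⁻¹⁻¹ = B.f s by group, B.mem_Q] at h1
    exact hsQ h1
  set gH : H := ⟨g, mem_centralizer_singleton_iff.2 hg.eq⟩
  set r' : H := ⟨B.f q, B.range_le ⟨q, rfl⟩⟩ with hr'
  have hconj : IsConj r r' := isConj_iff.2 ⟨gH, Subtype.ext he⟩
  have h32' : ¬ 2 ^ (4 + 1) ∣ Nat.card (centralizer ({r'} : Set H)) := by
    rwa [← card_centralizer_conj hconj]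
  have hqq : q * q = 1 := B.inj (by
    rw [map_mul, map_one, ← he, conj_mul, ← map_mul, hs, map_one]; group)
  set Tq : Subgroup H := (B.centS q).subgroupOf H with hTq
  have hcH : B.centS q ≤ H := (map_le_range B.f _).trans B.range_le
  have hTqle : Tq ≤ centralizer ({r'} : Set H) := fun a ha =>
    mem_centralizer_singleton_iff.2 (Subtype.ext (mem_centralizer_singleton_iff.1 (B.centS_le q ha)))
  have hTqc : Nat.card Tq = UT.cc q := by
    rw [hTq, Nat.card_congr (subgroupOfEquivOfLe hcH).toEquiv, B.card_centS]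
  rcases UT.QS_invol q hq hqq with e | e | e | ⟨e, a, b, ha, hb, hab⟩
  · rw [e, map_one, conj_eq_one_iff] at he
    exact hsQ ((B.inj (he.trans (map_one B.f).symm)) ▸ one_mem QS)
  · rw [e, show B.f zs = B.z from rfl] at he
    have h1 : B.f s = B.z := by
      calc B.f s = g⁻¹ * (g * B.f s * g⁻¹) * g := by group
        _ = B.z := by rw [he, mul_assoc, ← hg.eq, inv_mul_cancel_left]
    exact hsQ ((B.inj h1) ▸ UT.QS_facts.2.1)
  · exact h32' (by rw [show 2 ^ (4 + 1) = Nat.card Tq by rw [hTqc, e]; norm_num]; exact card_dvd_of_le hTqle)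
  · -- two Sylow subgroups of the centralizer, one commutative and one not
    set C := centralizer ({r'} : Set H) with hC
    have hA'le : T.map (MulAut.conj gH).toMonoidHom ≤ C := by
      rintro _ ⟨a, ha, rfl⟩
      refine mem_centralizer_singleton_iff.2 ?_
      have h1 : a * r = r * a := mem_centralizer_singleton_iff.1 (hTr ha)
      rw [show r' = gH * r * gH⁻¹ from Subtype.ext he.symm]
      show gH * a * gH⁻¹ * (gH * r * gH⁻¹) = gH * r * gH⁻¹ * (gH * a * gH⁻¹)
      calc gH * a * gH⁻¹ * (gH * r * gH⁻¹) = gH * (a * r) * gH⁻¹ := by group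
        _ = gH * r * gH⁻¹ * (gH * a * gH⁻¹) := by rw [h1]; group
    have mk : ∀ (U : Subgroup H), U ≤ C → Nat.card U = 2 ^ 4 → ∃ P : Sylow 2 C, (P : Subgroup C) = U.subgroupOf C := by
      intro U hU hUc
      have hc' : Nat.card (U.subgroupOf C) = 2 ^ 4 := by
        rw [Nat.card_congr (subgroupOfEquivOfLe hU).toEquiv, hUc]
      refine ⟨IsPGroup.toSylow (IsPGroup.of_card hc') fun h2 => h32' ?_, rfl⟩
      rw [← (U.subgroupOf C).card_mul_index, hc', pow_succ]
      exact Nat.mul_dvd_mul_left _ h2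
    obtain ⟨P₁, hP₁⟩ := mk _ hA'le (by rw [card_map_of_injective (MulEquiv.injective _), hT16])
    obtain ⟨P₂, hP₂⟩ := mk Tq hTqle (by rw [hTqc, e]; norm_num)
    obtain ⟨c, hc⟩ := MulAction.exists_smul_eq C P₁ P₂
    have hcomm : ∀ x ∈ (P₁ : Subgroup C), ∀ y ∈ (P₁ : Subgroup C), x * y = y * x := by
      intro x hx y hy
      rw [hP₁] at hx hy
      obtain ⟨x', hx', hxe⟩ := hx
      obtain ⟨y', hy', hye⟩ := hy
      refine Subtype.ext ?_
      show (C.subtype x) * (C.subtype y) = C.subtype y * C.subtype x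
      rw [← hxe, ← hye, ← map_mul, ← map_mul,
        show x' * y' = y' * x' from Subtype.ext (B.A_comm _ hx' _ hy')]
    have hcomm2 : ∀ x ∈ (P₂ : Subgroup C), ∀ y ∈ (P₂ : Subgroup C), x * y = y * x := by
      rw [← hc, Sylow.coe_subgroup_smul]
      rintro _ ⟨x, hx, rfl⟩ _ ⟨y, hy, rfl⟩
      exact congrArg (MulAut.conj c) (hcomm x hx y hy) |> fun e' => by simpa using e'
    have mem2 : ∀ t : UT, t * q = q * t → ∃ x ∈ (P₂ : Subgroup C), ((x : H) : G) = B.f t := by
      intro t ht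
      have hm : B.f t ∈ B.centS q := mem_map_of_mem _ (mem_centralizer_singleton_iff.2 ht)
      refine ⟨⟨⟨B.f t, hcH hm⟩, hTqle (show (⟨B.f t, hcH hm⟩ : H) ∈ Tq from mem_subgroupOf.2 hm)⟩, ?_, rfl⟩
      rw [hP₂]
      exact mem_subgroupOf.2 (mem_subgroupOf.2 hm)
    obtain ⟨x, hx, hxe⟩ := mem2 a ha
    obtain ⟨y, hy, hye⟩ := mem2 b hb
    refine hab (B.inj ?_)
    rw [map_mul, map_mul, ← hxe, ← hye]
    exact congrArg (fun w : C => ((w : H) : G)) (hcomm2 x hx y hy)

/-- The homomorphism of the centralizer of `z` onto the group of order two. -/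
theorem exists_phi : ∃ φ : ↥(centralizer ({B.z} : Set G)) →* Multiplicative (ZMod 2),
    ∀ (s : UT) (hs : B.f s ∈ centralizer ({B.z} : Set G)), φ ⟨B.f s, hs⟩ = 1 ↔ s ∈ QS := by
  haveI : Fact (Nat.Prime 2) := ⟨Nat.prime_two⟩
  set H := centralizer ({B.z} : Set G) with hH
  obtain ⟨S, hS⟩ := B.sylow
  let P : Sylow 2 H := S.subtype (hS.le.trans B.range_le)
  have hP : (P : Subgroup H) = B.f.range.subgroupOf H := by rw [← hS]; exact S.coe_subtype _
  let F : UT →* H := B.f.codRestrict H fun r => B.range_le ⟨r, rfl⟩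
  have hFinj : Function.Injective F := fun a b e => B.inj (congrArg Subtype.val e)
  set M := QS.map F with hM
  have hPr : (P : Subgroup H) = F.range := by
    rw [hP]
    ext x
    exact ⟨fun ⟨r, hr⟩ => ⟨r, Subtype.ext hr⟩, fun ⟨r, hr⟩ => ⟨r, congrArg Subtype.val hr⟩⟩
  have hrel : M.relIndex (P : Subgroup H) = 2 := by
    have hle : M ≤ (P : Subgroup H) := hPr ▸ map_le_range F QS
    have h1 := relIndex_mul_relIndex ⊥ M (P : Subgroup H) bot_le hle
    rw [relIndex_bot_left, relIndex_bot_left, hPr, hM, card_map_of_injective hFinj,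
      Nat.card_eq_fintype_card, UT.card_QS.1, ← Nat.card_congr (MonoidHom.ofInjective hFinj).toEquiv,
      Nat.card_eq_fintype_card, UT.fintype_card_ut] at h1
    rw [hPr, hM]
    omega
  obtain ⟨-, -, -, -, ⟨a1, a2, a3, a4⟩, h23, h23Q, hgen⟩ := UT.QS_gen_invol
  obtain ⟨b1, b2, b3, b4, -⟩ := UT.QS_gen_invol
  have hmem : ∀ r : UT, F r ∈ (P : Subgroup H) := fun r => hPr ▸ ⟨r, rfl⟩
  have nf : ∀ (g : H) (s q : UT), s * s = 1 → s ∉ QS → q ∈ QS → g * F s * g⁻¹ ≠ F q :=
    fun g s q hs hsQ hq e =>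
      B.not_fuse h (mem_centralizer_singleton_iff.1 g.2) hs hsQ hq (congrArg Subtype.val e)
  obtain ⟨φ, hφx, hφ⟩ := M12Type.exists_sgn P M hrel (hmem UT.x23)
    (by rw [← map_mul, h23, map_one]) (fun g _ hm => by
      obtain ⟨q, hq, hqe⟩ := hm
      exact nf g⁻¹ _ q h23 h23Q hq (by rw [hqe, inv_inv]))
  have hQ1 : ∀ r : UT, r * r = 1 → r ∈ QS → φ (F r) = 1 := by
    intro r hr hrQ
    refine hφ _ (hmem r) (by rw [← map_mul, hr, map_one]) fun g hg => ?_
    replace hg : g⁻¹ * F r * g ∈ F.range := hPr ▸ (show _ ∈ (P : Subgroup H) from hg)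
    obtain ⟨t, ht⟩ := hg
    by_cases htQ : t ∈ QS
    · exact ⟨t, htQ, ht⟩
    · refine absurd ?_ (nf g t r ?_ htQ hrQ)
      · rw [ht]; group
      · refine hFinj ?_
        rw [map_mul, map_one, ht, show g⁻¹ * F r * g * (g⁻¹ * F r * g) = g⁻¹ * (F r * F r) * g by group,
          ← map_mul, hr, map_one]
        group
  have hall : ∀ r : UT, r ∈ QS → φ (F r) = 1 := by
    intro r hr
    obtain ⟨a, b, c, d, e, rfl⟩ := hgen r hr
    have h1 := hQ1 _ b1 a1
    have h2 := hQ1 _ b2 a2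
    have h3 := hQ1 _ b3 a3
    have h4 := hQ1 _ b4 a4
    simp only [map_mul, map_pow, h1, h2, h3, h4, one_mul, one_pow]
  refine ⟨φ, fun s hs => ⟨fun h1 => ?_, fun h1 => hall s h1⟩⟩
  by_contra hsQ
  obtain ⟨q, hq, rfl⟩ : ∃ q ∈ QS, s = UT.x23 * q := UT.QS_facts.2.2.2.2 s hsQ
  refine hφx ?_
  have h2 : φ (F (UT.x23 * q)) = 1 := h1
  rwa [map_mul, map_mul, hall q hq, mul_one] at h2

end Base

end Cfsg.Agent.A8Type
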