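import Cfsg.Agent.A8Type.Cz.Hom
import Cfsg.Agent.M12Type.Cent
import Cfsg.Agent.Core.Basics

/-!
The centralizer of the central involution is its core extended by the normalizer of the extraspecial
subgroup, and the elements centralizing the extraspecial subgroup lie in the core times the centre.
-/

set_option autoImplicit false
set_option maxRecDepth 8000

namespace Cfsg.Agent.A8Type

open Subgroup

/-- The core of a quotient by a central subgroup of order two comes from the core. -/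
theorem core_quot {C : Type*} [Group C] [Finite C] {Z : Subgroup C} [Z.Normal] (hZc : Z ≤ center C)
    (hZ2 : Nat.card Z = 2) {c : C} (hc : (c : C ⧸ Z) ∈ pPrimeCore 2 (C ⧸ Z)) :
    ∃ o ∈ pPrimeCore 2 C, o⁻¹ * c ∈ Z := by
  classical
  haveI : Fact (Nat.Prime 2) := ⟨Nat.prime_two⟩
  set O := pPrimeCore 2 (C ⧸ Z)
  have hOn : O.Normal := Core.pPrimeCore_normal
  have hOodd : ¬ 2 ∣ Nat.card O := Core.not_dvd_card_pPrimeCore
  set P0 := O.comap (QuotientGroup.mk' Z) with hP0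
  have hP0n : P0.Normal := hOn.comap _
  have hZP : Z ≤ P0 := fun z hz => by
    show (z : C ⧸ Z) ∈ O
    rw [(QuotientGroup.eq_one_iff z).2 hz]
    exact one_mem _
  have hcard : Nat.card P0 = 2 * Nat.card O := by
    have e1 := P0.card_mul_index
    have e2 := O.card_mul_index
    rw [hP0, O.index_comap_of_surjective (QuotientGroup.mk'_surjective Z)] at e1
    have e3 := Z.card_mul_index
    rw [index_eq_card, hZ2, ← e2] at e3
    rw [← e3, ← mul_assoc] at e1
    exact Nat.eq_of_mul_eq_mul_right (Nat.pos_of_ne_zero index_ne_zero_of_finite) e1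
  have hi : (Z.subgroupOf P0).index = Nat.card O := by
    have h1 := (Z.subgroupOf P0).card_mul_index
    rw [Nat.card_congr (subgroupOfEquivOfLe hZP).toEquiv, hZ2, hcard] at h1
    omega
  obtain ⟨H, hH⟩ := Subgroup.exists_right_complement'_of_coprime (N := Z.subgroupOf P0)
    (by rw [Nat.card_congr (subgroupOfEquivOfLe hZP).toEquiv, hZ2, hi]
        exact Nat.prime_two.coprime_iff_not_dvd.2 hOodd)
  have hHodd : ¬ 2 ∣ Nat.card H := by
    rw [← hH.symm.index_eq_card, hi]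
    exact hOodd
  have hHi : H.index = 2 := by
    rw [hH.index_eq_card, Nat.card_congr (subgroupOfEquivOfLe hZP).toEquiv, hZ2]
  have hin : ∀ x : P0, ¬ 2 ∣ orderOf x → x ∈ H := fun x hx => M12Type.mem_of_odd_of_index_two hHi hx
  set K := H.map P0.subtype
  have hKn : K.Normal := ⟨by
    rintro _ ⟨x, hx, rfl⟩ g
    refine ⟨⟨g * x * g⁻¹, hP0n.conj_mem _ x.2 g⟩, hin _ ?_, rfl⟩
    rw [Subgroup.orderOf_mk, Invol.orderOf_conj, Subgroup.orderOf_coe]
    exact fun h2 => hHodd (h2.trans (Subgroup.orderOf_dvd_natCard H hx))⟩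
  have hK : ∀ x : P0, x ∈ H → (x : C) ∈ pPrimeCore 2 C := fun x hx =>
    Core.le_pPrimeCore (p := 2) (N := K) (by
      rw [card_map_of_injective P0.subtype_injective]
      exact (Nat.prime_two.coprime_iff_not_dvd.2 hHodd).symm) ⟨x, hx, rfl⟩
  obtain ⟨⟨u, v⟩, huv, -⟩ := isComplement_iff_existsUnique.1 hH (⟨c, hc⟩ : P0)
  refine ⟨((v : P0) : C), hK _ v.2, ?_⟩
  have hu : ((u : P0) : C) ∈ Z := u.2
  have e : ((u : P0) : C) * ((v : P0) : C) = c := congrArg Subtype.val huv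
  rwa [← e, ← mul_assoc, mem_center_iff.1 (hZc hu) _, mul_assoc, inv_mul_cancel, mul_one] at *

theorem mult_two : ∀ a : Multiplicative (ZMod 2), a = 1 ∨ a = Multiplicative.ofAdd 1 := by decide

namespace Base

variable {G : Type*} [Group G] (B : Base G)

/-- The centralizer of the central involution. -/
abbrev CZ : Type _ := ↥(centralizer ({B.z} : Set G))

/-- The model inside the centralizer. -/
def fc : UT →* B.CZ :=
  B.f.codRestrict _ fun s => mem_centralizer_singleton_iff.2 (B.comm_z s).eq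

/-- The subgroup generated by the central involution. -/
def NZ : Subgroup B.CZ := zpowers (B.fc zs)

theorem NZ_le_center : B.NZ ≤ center B.CZ := zpowers_le.2 (mem_center_iff.2 fun g =>
  Subtype.ext (mem_centralizer_singleton_iff.1 g.2))

instance : B.NZ.Normal := ⟨fun n hn g => by
  rw [mem_center_iff.1 (B.NZ_le_center hn) g, mul_inv_cancel_right]; exact hn⟩

theorem card_NZ : Nat.card B.NZ = 2 := by
  rw [NZ, Nat.card_zpowers, ← Subgroup.orderOf_coe]
  exact B.orderOf_z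

theorem mem_NZ {c : B.CZ} : c ∈ B.NZ ↔ (c : G) = 1 ∨ (c : G) = B.z := by
  constructor
  · intro hc
    obtain ⟨k, rfl⟩ := hc
    show ((B.f zs) ^ k : G) = 1 ∨ (B.f zs) ^ k = B.f zs
    have h2 : B.f zs * B.f zs = 1 := by rw [← map_mul, UT.zs_facts.2.1, map_one]
    rcases Int.even_or_odd k with ⟨m, rfl⟩ | ⟨m, rfl⟩
    · left; rw [← two_mul, zpow_mul, zpow_two, h2, one_zpow]
    · right; rw [zpow_add, zpow_mul, zpow_two, h2, one_zpow, one_mul, zpow_one]
  · rintro (h | h)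
    · rw [show c = 1 from Subtype.ext h]; exact one_mem _
    · rw [show c = B.fc zs from Subtype.ext h]; exact mem_zpowers _

variable [Finite G]

/-- Elements whose image lies in the core of the quotient. -/
theorem lift_core {c : B.CZ} (hc : (c : B.CZ ⧸ B.NZ) ∈ pPrimeCore 2 (B.CZ ⧸ B.NZ)) :
    ∃ o ∈ theta B.z, ∃ s ∈ [1, zs], (c : G) = o * B.f s := by
  obtain ⟨o, ho, hz⟩ := core_quot B.NZ_le_center B.card_NZ hc
  refine ⟨(o : G), mem_map_of_mem _ ho, ?_⟩
  rcases B.mem_NZ.1 hz with e | e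
  · exact ⟨1, by simp, by rw [map_one, mul_one]; exact (inv_mul_eq_one.1 e).symm⟩
  · exact ⟨zs, by simp, inv_mul_eq_iff_eq_mul.1 e⟩

variable (h : B.Simp)
include h

/-- The extraspecial subgroup is normal modulo the core. -/
theorem Q_normal {g : G} (hg : Commute g B.z) {q : UT} (hq : q ∈ QS) :
    ∃ o ∈ theta B.z, ∃ q' ∈ QS, g * B.f q * g⁻¹ = o * B.f q' := by
  classical
  haveI : Fact (Nat.Prime 2) := ⟨Nat.prime_two⟩
  haveI : Group.IsSolvable B.CZ := h.solvable
  obtain ⟨φ, hφ⟩ := B.exists_phi h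
  obtain ⟨S, hS⟩ := B.sylow
  let P : Sylow 2 B.CZ := S.subtype (hS.le.trans B.range_le)
  set N0 := φ.ker with hN0
  have hker : ∀ r : UT, B.fc r ∈ N0 ↔ r ∈ QS := fun r => hφ r _
  have hPr : (P : Subgroup B.CZ) = B.fc.range := by
    rw [S.coe_subtype, hS]
    ext x
    exact ⟨fun ⟨r, hr⟩ => ⟨r, Subtype.ext hr⟩, fun ⟨r, hr⟩ => ⟨r, congrArg Subtype.val hr⟩⟩
  -- a Sylow subgroup of the kernel
  set Q0 := QS.map B.fc with hQ0
  have hQ0le : Q0 ≤ N0 := by rintro _ ⟨r, hr, rfl⟩; exact (hker r).2 hr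
  have hi2 : N0.index = 2 := by
    rw [hN0, Subgroup.index_ker]
    have : φ.range = ⊤ := eq_top_iff.2 fun a _ => by
      rcases mult_two a with rfl | rfl
      · exact one_mem _
      · refine ⟨B.fc UT.x23, ?_⟩
        have h1 : φ (B.fc UT.x23) ≠ 1 := fun e => UT.QS_gen_invol.2.2.2.2.2.2.1 ((hker _).1 e)
        exact (mult_two _).resolve_left h1
    rw [this, card_top]
    simp
  have hinj : Function.Injective B.fc := fun a b e => B.inj (congrArg Subtype.val e)
  have hQc : Nat.card (Q0.subgroupOf N0) = 2 ^ 5 := by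
    rw [Nat.card_congr (subgroupOfEquivOfLe hQ0le).toEquiv, hQ0, card_map_of_injective hinj,
      Nat.card_eq_fintype_card, UT.card_QS.1]
    norm_num
  let PN : Sylow 2 N0 := IsPGroup.toSylow (IsPGroup.of_card hQc) (by
    intro h2
    refine P.not_dvd_index ?_
    have hP64 : Nat.card (P : Subgroup B.CZ) = 64 := by
      rw [hPr, ← Nat.card_congr (MonoidHom.ofInjective hinj).toEquiv, Nat.card_eq_fintype_card,
        UT.fintype_card_ut]
    have e1 := (P : Subgroup B.CZ).card_mul_index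
    have e2 := (Q0.subgroupOf N0).card_mul_index
    have e3 := N0.card_mul_index
    rw [hP64] at e1
    rw [hQc] at e2
    rw [hi2, ← e2, ← e1] at e3
    obtain ⟨j, hj⟩ := h2
    rw [hj] at e3
    omega)
  let ρ : N0 →* B.CZ ⧸ B.NZ := (QuotientGroup.mk' B.NZ).comp N0.subtype
  haveI : Group.IsSolvable ρ.range := Group.isSolvable_of_surjective ρ.rangeRestrict_surjective
  let P' : Sylow 2 ρ.range := PN.mapSurjective ρ.rangeRestrict_surjective
  have hP' : ∀ y ∈ (P' : Subgroup ρ.range), ∃ r ∈ QS, (y : B.CZ ⧸ B.NZ) = ((B.fc r : B.CZ) : B.CZ ⧸ B.NZ) := by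
    intro y hy
    rw [Sylow.coe_mapSurjective] at hy
    obtain ⟨x, hx, rfl⟩ := hy
    obtain ⟨r, hr, hre⟩ := (show (x : B.CZ) ∈ Q0 from hx)
    exact ⟨r, hr, by rw [hre]; rfl⟩
  haveI hab : IsMulCommutative (P' : Subgroup ρ.range) := by
    refine ⟨⟨?_⟩⟩
    rintro ⟨a, ha⟩ ⟨b, hb⟩
    obtain ⟨r, hr, hre⟩ := hP' a ha
    obtain ⟨s, hs, hse⟩ := hP' b hb
    refine Subtype.ext (Subtype.ext ?_)
    show (a : B.CZ ⧸ B.NZ) * b = b * a
    rw [hre, hse, ← QuotientGroup.mk_mul, ← QuotientGroup.mk_mul, QuotientGroup.eq, B.mem_NZ]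
    have key : ∀ r s : UT, r ∈ QS → s ∈ QS → (r * s)⁻¹ * (s * r) = 1 ∨ (r * s)⁻¹ * (s * r) = zs := by
      decide +kernel
    rcases key r s hr hs with e | e
    · left; rw [← map_one B.f, ← e, map_mul, map_inv, map_mul, map_mul]; rfl
    · right; show _ = B.f zs; rw [← e, map_mul, map_inv, map_mul, map_mul]; rfl
  have hR := S0018.result 2 P' hab
  haveI hN0n : N0.Normal := inferInstance
  have hρn : ρ.range.Normal := by
    rw [MonoidHom.range_comp, range_subtype]
    exact hN0n.map _ (QuotientGroup.mk'_surjective _)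
  haveI := hρn
  have hcore : (pPrimeCore 2 ρ.range).map ρ.range.subtype ≤ pPrimeCore 2 (B.CZ ⧸ B.NZ) :=
    Core.le_pPrimeCore (by
      rw [card_map_of_injective (subtype_injective _)]
      exact Core.coprime_card_pPrimeCore)
  -- the conjugate by an element of the kernel
  have key : ∀ k ∈ N0, ∀ r ∈ QS, ∃ o ∈ theta B.z, ∃ q' ∈ QS, (k : G) * B.f r * (k : G)⁻¹ = o * B.f q' := by
    intro k hk r hr
    haveI := hR
    have hy : ρ.rangeRestrict ⟨B.fc r, (hker r).2 hr⟩ ∈ (P' : Subgroup ρ.range) := by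
      rw [Sylow.coe_mapSurjective]
      exact mem_map_of_mem _ (show _ ∈ Q0.subgroupOf N0 from mem_subgroupOf.2 (mem_map_of_mem _ hr))
    have hconj := hR.conj_mem _ (mem_sup_left hy) (ρ.rangeRestrict ⟨k, hk⟩)
    rw [sup_comm, mem_sup_of_normal_left] at hconj
    obtain ⟨o', ho', y, hy', he⟩ := hconj
    obtain ⟨r', hr', hre⟩ := hP' y hy'
    have h1 : ((o' : ρ.range) : B.CZ ⧸ B.NZ) = ((k * B.fc r * k⁻¹ * (B.fc r')⁻¹ : B.CZ) : B.CZ ⧸ B.NZ) := by
      rw [QuotientGroup.mk_mul, QuotientGroup.mk_inv, ← hre, eq_mul_inv_iff_mul_eq]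
      exact congrArg Subtype.val he
    obtain ⟨o, ho, s, hs, hoe⟩ := B.lift_core (c := k * B.fc r * k⁻¹ * (B.fc r')⁻¹) (by
      rw [← h1]; exact hcore (mem_map_of_mem ρ.range.subtype ho'))
    have hsQ : s ∈ QS := by
      simp only [List.mem_cons, List.not_mem_nil, or_false] at hs
      rcases hs with rfl | rfl
      exacts [one_mem _, UT.QS_facts.2.1]
    refine ⟨o, ho, s * r', mul_mem hsQ hr', ?_⟩
    replace hoe : (k : G) * B.f r * (k : G)⁻¹ * (B.f r')⁻¹ = o * B.f s := hoe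
    rw [mul_inv_eq_iff_eq_mul] at hoe
    rw [hoe, map_mul, mul_assoc]
  set gc : B.CZ := ⟨g, mem_centralizer_singleton_iff.2 hg.eq⟩
  by_cases hgN : gc ∈ N0
  · exact key gc hgN q hq
  · have h23 : B.fc UT.x23 ∉ N0 := fun e => UT.QS_gen_invol.2.2.2.2.2.2.1 ((hker _).1 e)
    have hmem : gc * B.fc UT.x23 ∈ N0 :=
      (mul_mem_iff_of_index_two hi2).2 ⟨fun a => absurd a hgN, fun a => absurd a h23⟩
    obtain ⟨o, ho, q', hq', he⟩ := key _ hmem (UT.x23⁻¹ * q * UT.x23⁻¹⁻¹) (UT.QS_facts.2.2.1 q hq _)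
    refine ⟨o, ho, q', hq', ?_⟩
    rw [← he]
    show g * B.f q * g⁻¹ = g * B.f UT.x23 * B.f (UT.x23⁻¹ * q * UT.x23⁻¹⁻¹) * (g * B.f UT.x23)⁻¹
    rw [B.conj_f, map_inv]
    group

omit h in
theorem Q_le_norm_theta {o q : G} (hq : q ∈ B.Q) (ho : o ∈ theta B.z) : q * o * q⁻¹ ∈ theta B.z := by
  obtain ⟨r, -, rfl⟩ := hq
  exact theta_normal (B.comm_z r) ho

/-- The centralizer is the core times the normalizer of the extraspecial subgroup. -/
theorem decomp {g : G} (hg : Commute g B.z) :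
    ∃ o ∈ theta B.z, ∃ n : G, Commute n B.z ∧ n ∈ normalizer (B.Q : Set G) ∧ g = o * n := by
  classical
  haveI : Fact (Nat.Prime 2) := ⟨Nat.prime_two⟩
  let C := centralizer ({B.z} : Set G)
  -- the product of the core and the extraspecial subgroup
  let H0 : Subgroup G :=
    { carrier := {x | ∃ o ∈ theta B.z, ∃ q ∈ B.Q, x = o * q}
      one_mem' := ⟨1, one_mem _, 1, one_mem _, (one_mul _).symm⟩
      mul_mem' := by
        rintro _ _ ⟨o, ho, q, hq, rfl⟩ ⟨o', ho', q', hq', rfl⟩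
        exact ⟨o * (q * o' * q⁻¹), mul_mem ho (B.Q_le_norm_theta hq ho'), q * q', mul_mem hq hq', by group⟩
      inv_mem' := by
        rintro _ ⟨o, ho, q, hq, rfl⟩
        refine ⟨q⁻¹ * o⁻¹ * q⁻¹⁻¹, B.Q_le_norm_theta (inv_mem hq) (inv_mem ho), q⁻¹, inv_mem hq, by group⟩ }
  have hH0C : H0 ≤ C := by
    rintro _ ⟨o, ho, q, hq, rfl⟩
    exact mul_mem (theta_le _ ho) (((map_le_range B.f QS).trans B.range_le) hq)
  have hQH0 : B.Q ≤ H0 := fun q hq => ⟨1, one_mem _, q, hq, (one_mul _).symm⟩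
  have hconj : B.Q.map (MulAut.conj g).toMonoidHom ≤ H0 := by
    rintro _ ⟨_, ⟨q, hq, rfl⟩, rfl⟩
    obtain ⟨o, ho, q', hq', he⟩ := B.Q_normal h hg hq
    exact ⟨o, ho, _, mem_map_of_mem _ hq', he⟩
  have hQp : ∀ {U : Subgroup G}, U ≤ H0 → Nat.card U = 32 → ∃ P : Sylow 2 H0, (P : Subgroup H0) = U.subgroupOf H0 := by
    intro U hU hUc
    have hc : Nat.card (U.subgroupOf H0) = 2 ^ 5 := by
      rw [Nat.card_congr (subgroupOfEquivOfLe hU).toEquiv, hUc]; norm_num
    refine ⟨IsPGroup.toSylow (IsPGroup.of_card hc) ?_, rfl⟩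
    intro h2
    have hsur : Function.Surjective (fun p : theta B.z × B.Q => (⟨(p.1 : G) * p.2,
        ⟨p.1, p.1.2, p.2, p.2.2, rfl⟩⟩ : H0)) := by
      rintro ⟨_, o, ho, q, hq, rfl⟩
      exact ⟨(⟨o, ho⟩, ⟨q, hq⟩), rfl⟩
    have hle := Nat.card_le_card_of_surjective _ hsur
    have hinj : Function.Injective (fun p : theta B.z × B.Q => (⟨(p.1 : G) * p.2,
        ⟨p.1, p.1.2, p.2, p.2.2, rfl⟩⟩ : H0)) := by
      rintro ⟨o, q⟩ ⟨o', q'⟩ e
      have e' : (o : G) * q = o' * q' := congrArg Subtype.val e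
      have hm : ((o' : G)⁻¹ * o) = (q' : G) * (q : G)⁻¹ := by
        calc (o' : G)⁻¹ * o = (o' : G)⁻¹ * ((o : G) * q) * (q : G)⁻¹ := by group
          _ = (q' : G) * (q : G)⁻¹ := by rw [e']; group
      have hdisj : Disjoint (theta B.z) B.Q := disjoint_of_coprime_natCard (by
        rw [B.card_Q, show 32 = 2 ^ 5 by norm_num]
        exact ((Nat.prime_two.coprime_iff_not_dvd.2 (theta_odd B.z)).pow_left 5).symm)
      have h1 : ((o' : G)⁻¹ * o) = 1 := disjoint_def.1 hdisj (mul_mem (inv_mem o'.2) o.2)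
        (hm ▸ mul_mem q'.2 (inv_mem q.2))
      have ho : o = o' := Subtype.ext (inv_mul_eq_one.1 h1).symm
      subst ho
      exact Prod.ext rfl (Subtype.ext (mul_left_cancel e'))
    have hcard : Nat.card H0 = Nat.card (theta B.z) * 32 := by
      rw [← Nat.card_congr (Equiv.ofBijective _ ⟨hinj, hsur⟩), Nat.card_prod, B.card_Q]
    have e2 := (U.subgroupOf H0).card_mul_index
    rw [hc, hcard] at e2
    have : (U.subgroupOf H0).index = Nat.card (theta B.z) := by
      norm_num at e2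
      omega
    exact theta_odd B.z (this ▸ h2)
  obtain ⟨P₁, hP₁⟩ := hQp hconj (by rw [card_map_of_injective (MulEquiv.injective _), B.card_Q])
  obtain ⟨P₀, hP₀⟩ := hQp hQH0 B.card_Q
  obtain ⟨c, hc⟩ := MulAction.exists_smul_eq H0 P₁ P₀
  obtain ⟨o, ho, q, hq, hcq⟩ := c.2
  have hn : (c : G) * g ∈ normalizer (B.Q : Set G) := by
    refine mem_normalizer_iff_map_conj_eq.2 (eq_of_le_of_card_ge ?_
      (by rw [card_map_of_injective (MulEquiv.injective _)]))
    rintro _ ⟨x, hx, rfl⟩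
    have hx1 : (⟨g * x * g⁻¹, hconj ⟨x, hx, rfl⟩⟩ : H0) ∈ (P₁ : Subgroup H0) := by
      rw [hP₁]; exact mem_subgroupOf.2 ⟨x, hx, rfl⟩
    have hx2 : c * ⟨g * x * g⁻¹, hconj ⟨x, hx, rfl⟩⟩ * c⁻¹ ∈ (P₀ : Subgroup H0) := by
      rw [← hc, Sylow.coe_subgroup_smul]
      exact smul_mem_pointwise_smul _ (MulAut.conj c) _ hx1
    rw [hP₀] at hx2
    have := mem_subgroupOf.1 hx2
    simpa [mul_assoc] using this
  refine ⟨q⁻¹ * o⁻¹ * q⁻¹⁻¹, B.Q_le_norm_theta (inv_mem hq) (inv_mem ho), q⁻¹ * ((c : G) * g), ?_,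
    mul_mem (inv_mem (le_normalizer hq)) hn, by rw [hcq]; group⟩
  exact Commute.mul_left (show Commute q⁻¹ B.z from mem_centralizer_singleton_iff.1 (inv_mem (hH0C (hQH0 hq))))
    (Commute.mul_left (show Commute (c : G) B.z from mem_centralizer_singleton_iff.1 (hH0C c.2)) hg)

/-- An element of the centralizer of `z` centralizing the extraspecial subgroup lies in the core
times the centre. -/
theorem cent_Q {w : G} (hw : Commute w B.z) (hwQ : ∀ q ∈ QS, Commute w (B.f q)) :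
    ∃ o ∈ theta B.z, ∃ s ∈ [1, zs], w = o * B.f s := by
  classical
  haveI : Fact (Nat.Prime 2) := ⟨Nat.prime_two⟩
  set C := centralizer ({B.z} : Set G) with hC
  let mk := QuotientGroup.mk' B.NZ
  set W : Subgroup B.CZ := (centralizer (B.Q : Set G)).subgroupOf C with hW
  set W' := W.map mk with hW'
  have hWodd : ¬ 2 ∣ Nat.card W' := by
    intro h2
    obtain ⟨⟨x, hxW⟩, hx⟩ := exists_prime_orderOf_dvd_card' (G := W') 2 h2
    obtain ⟨y, hy, rfl⟩ := hxW
    replace hx : orderOf (mk y) = 2 := by rw [← hx, ← Subgroup.orderOf_coe]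
    obtain ⟨a, b, rfl, ha, hb, hay, -⟩ := M12Type.exists_parts y
    -- the 2-part lies in the centre
    have haW : a ∈ W := zpowers_le.2 hy hay
    set H1 := C ⊓ normalizer (B.Q : Set G) with hH1
    have hrH : B.f.range ≤ H1 := le_inf B.range_le (by
      rintro _ ⟨r, rfl⟩
      refine mem_normalizer_iff_map_conj_eq.2 (eq_of_le_of_card_ge ?_
        (by rw [card_map_of_injective (MulEquiv.injective _)]))
      rintro _ ⟨_, ⟨q, hq, rfl⟩, rfl⟩
      exact ⟨r * q * r⁻¹, UT.QS_facts.2.2.1 q hq r, B.conj_f r q⟩)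
    have hle : (zpowers a).map C.subtype ≤ H1 := by
      rintro _ ⟨u, hu, rfl⟩
      exact ⟨u.2, centralizer_le_normalizer _ (zpowers_le.2 haW hu)⟩
    obtain ⟨c, hc, hcs⟩ := B.conj_into hrH (ha.map C.subtype) hle
    obtain ⟨r, hr⟩ := hcs _ (mem_map_of_mem C.subtype (mem_zpowers a))
    have haN : a ∈ B.NZ := by
      have hrc : ∀ q ∈ QS, r * q = q * r := by
        intro q hq
        refine B.inj ?_
        obtain ⟨q', hq', hqe⟩ := (mem_normalizer_iff''.1 hc.2 (B.f q)).1 (mem_map_of_mem _ hq)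
        have h1 : (a : G) * B.f q' = B.f q' * a := (haW (B.f q') (mem_map_of_mem _ hq')).symm
        rw [hqe] at h1
        rw [map_mul, map_mul, ← hr]
        show c * (a : G) * c⁻¹ * B.f q = B.f q * (c * (a : G) * c⁻¹)
        calc c * (a : G) * c⁻¹ * B.f q = c * ((a : G) * (c⁻¹ * B.f q * c)) * c⁻¹ := by group
          _ = B.f q * (c * (a : G) * c⁻¹) := by rw [h1]; group
      have hcz : Commute c B.z := mem_centralizer_singleton_iff.1 hc.1
      have hac : (a : G) = c⁻¹ * B.f r * c := by rw [← hr]; simp [mul_assoc]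
      rw [B.mem_NZ, hac]
      rcases UT.QS_facts.2.2.2.1 r (fun q hq => hrc q hq) with e | e
      · left; rw [e, map_one]; group
      · right
        rw [e, show B.f zs = B.z from rfl, mul_assoc, ← hcz.eq, inv_mul_cancel_left]
    have e1 : mk a = 1 := (QuotientGroup.eq_one_iff _).2 haN
    rw [map_mul, e1, one_mul] at hx
    exact hb (hx ▸ orderOf_map_dvd mk b)
  set O := pPrimeCore 2 (B.CZ ⧸ B.NZ) with hO
  have hOn : O.Normal := Core.pPrimeCore_normal
  -- invariance of the product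
  have hR : (W' ⊔ O).Normal := by
    refine ⟨fun x hx g => ?_⟩
    obtain ⟨g, rfl⟩ := QuotientGroup.mk'_surjective B.NZ g
    obtain ⟨o, ho, n, hnz, hnQ, hgn⟩ := B.decomp h (mem_centralizer_singleton_iff.1 g.2)
    set oc : B.CZ := ⟨o, theta_le _ ho⟩
    set nc : B.CZ := ⟨n, mem_centralizer_singleton_iff.2 hnz.eq⟩
    have hoO : mk oc ∈ O := by
      obtain ⟨o', ho', hoe⟩ := ho
      rw [show oc = o' from Subtype.ext hoe.symm]
      exact Core.map_pPrimeCore_le_of_surjective (QuotientGroup.mk'_surjective B.NZ) ⟨o', ho', rfl⟩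
    have hnW : ∀ y ∈ W', mk nc * y * (mk nc)⁻¹ ∈ W' := by
      rintro _ ⟨y, hy, rfl⟩
      refine ⟨nc * y * nc⁻¹, ?_, by simp [mk]⟩
      intro q hq
      show q * (n * (y : G) * n⁻¹) = n * (y : G) * n⁻¹ * q
      have h1 := hy (n⁻¹ * q * n) ((mem_normalizer_iff''.1 hnQ q).1 hq)
      replace h1 : n⁻¹ * q * n * (y : G) = (y : G) * (n⁻¹ * q * n) := h1
      calc q * (n * (y : G) * n⁻¹) = n * (n⁻¹ * q * n * (y : G)) * n⁻¹ := by group
        _ = n * (y : G) * n⁻¹ * q := by rw [h1]; group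
    have hmap : (W' ⊔ O).map (MulAut.conj (mk nc)).toMonoidHom ≤ W' ⊔ O := by
      rw [Subgroup.map_sup]
      refine sup_le_sup ?_ ?_
      · rintro _ ⟨y, hy, rfl⟩; exact hnW y hy
      · rintro _ ⟨y, hy, rfl⟩; exact hOn.conj_mem y hy _
    rw [show g = oc * nc from Subtype.ext hgn, map_mul,
      show mk oc * mk nc * x * (mk oc * mk nc)⁻¹ = mk oc * (mk nc * x * (mk nc)⁻¹) * (mk oc)⁻¹ by group]
    exact mul_mem (mul_mem (mem_sup_right hoO) (hmap ⟨x, hx, rfl⟩)) (inv_mem (mem_sup_right hoO))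
  have hRodd : ¬ 2 ∣ Nat.card (W' ⊔ O : Subgroup _) := fun h2 => by
    have hd := h2.mul_right (Nat.card (W' ⊓ O : Subgroup _))
    rw [Core.card_sup_mul_card_inf W' O] at hd
    exact ((Nat.Prime.dvd_mul Nat.prime_two).1 hd).elim hWodd Core.not_dvd_card_pPrimeCore
  have hle : W' ⊔ O ≤ O :=
    Core.le_pPrimeCore (hN := hR) ((Nat.prime_two.coprime_iff_not_dvd.2 hRodd).symm)
  set wc : B.CZ := ⟨w, mem_centralizer_singleton_iff.2 hw.eq⟩
  exact B.lift_core (c := wc) (hle (mem_sup_left ⟨wc, mem_subgroupOf.2 (by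
    rintro _ ⟨q, hq, rfl⟩
    exact (hwQ q hq).eq.symm), rfl⟩))

end Base

end Cfsg.Agent.A8Type
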