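import Cfsg.Agent.A8Type.Facts

/-!
The automorphisms of order three of the extraspecial subgroup which the centralizer of the central
involution can induce, and the classification of the automorphisms of odd order modulo inner ones.
-/

set_option autoImplicit false
set_option maxRecDepth 8000

namespace Cfsg.Agent.A8Type

/-- The rotation inverted by `E23`. -/
def sm : UT → UT := (rots false).headD id

/-- The rotation commuting with `E23`. -/
def sp : UT → UT :=
  tabQ [0, 41, 26, 59, 8, 33, 18, 51, 2, 35, 24, 49, 10, 43, 16, 57, 1, 40, 19, 50, 9, 32, 27, 58,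
    3, 34, 17, 56, 11, 42, 25, 48]

/-- A product of the two rotations. -/
def rho (i j : Fin 3) (x : UT) : UT := sm^[(i : ℕ)] (sp^[(j : ℕ)] x)

namespace UT

theorem rot_facts : (∀ x : UT, x ∈ QS → sm x ∈ QS ∧ sp x ∈ QS ∧ sm (sp x) = sp (sm x) ∧
      sm (sm (sm x)) = x ∧ sp (sp (sp x)) = x ∧
      x23 * sm (x23 * x * x23) * x23 = sm (sm x) ∧ x23 * sp (x23 * x * x23) * x23 = sp x) ∧
    sm zs = zs ∧ sp zs = zs := by
  refine ⟨by decide +kernel, by decide +kernel, by decide +kernel⟩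

theorem rot_gen : ∀ y : UT, y ∈ [x12, x34, x13, x24] → ∀ x : UT, x ∈ QS →
    sm (x * y) = sm x * sm y ∧ sp (x * y) = sp x * sp y := by
  decide +kernel

theorem rho_add : ∀ i j k l : Fin 3, ∀ x : UT, x ∈ QS → rho i j (rho k l x) = rho (i + k) (j + l) x := by
  decide +kernel

theorem rho_conj : ∀ i j : Fin 3, ∀ x : UT, x ∈ QS →
    x23 * rho i j (x23 * x * x23) * x23 = rho (-i) j x := by
  decide +kernel

/-- Representatives of the nine pairs of noncentral involutions of the extraspecial subgroup. -/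
def nine : List UT := [el 32, el 48, el 1, el 3, el 33, el 51, el 16, el 2, el 18]

/-- The representative modulo the centre. -/
def clr (x : UT) : UT := ⟨x.a, x.b, 0, x.d, x.e, x.f⟩

/-- The map modulo the centre with given images of the four generators. -/
def lin (a b c d : UT) (x : UT) : UT :=
  clr (a ^ x.a.val * b ^ x.f.val * c ^ x.b.val * d ^ x.e.val)

theorem nine_spec : ∀ x : UT, x ∈ QS → x * x = 1 → x ≠ 1 → x ≠ zs → clr x ∈ nine := by
  decide +kernel

theorem clr_spec : (∀ x y : UT, clr (x * y) = clr (clr x * clr y)) ∧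
    (∀ x y : UT, clr x = clr y → y = x ∨ y = x * zs) ∧ (∀ x : UT, x ∈ QS → clr x ∈ QS) ∧
    ∀ x : UT, clr (x * zs) = clr x := by
  refine ⟨by decide +kernel, by decide +kernel, by decide +kernel, by decide +kernel⟩

/-- The iterate of the linear map is the identity. -/
def Per (n : ℕ) (a b c d : UT) : Prop := ∀ x : UT, x ∈ QS → (lin a b c d)^[n] (clr x) = clr x

instance (n : ℕ) (a b c d : UT) : Decidable (Per n a b c d) :=
  inferInstanceAs (Decidable (∀ x : UT, x ∈ QS → (lin a b c d)^[n] (clr x) = clr x))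

/-- The images are those of a rotation. -/
def IsRot (a b c d : UT) : Prop :=
  ∃ i j : Fin 3, clr (rho i j x12) = a ∧ clr (rho i j x34) = b ∧ clr (rho i j x13) = c ∧
    clr (rho i j x24) = d

instance (a b c d : UT) : Decidable (IsRot a b c d) :=
  inferInstanceAs (Decidable (∃ i j : Fin 3, clr (rho i j x12) = a ∧ clr (rho i j x34) = b ∧
    clr (rho i j x13) = c ∧ clr (rho i j x24) = d))

set_option maxHeartbeats 2000000 in
theorem classify : ∀ a ∈ nine, ∀ b ∈ nine, a * b = b * a → clr a ≠ clr b →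
    ∀ c ∈ nine, a * c = c * a → ¬ b * c = c * b →
    ∀ d ∈ nine, ¬ a * d = d * a → b * d = d * b → c * d = d * c →
    Per 36 a b c d ∧ (¬ Per 9 a b c d ∨ IsRot a b c d) := by
  decide +kernel

theorem sign_fix : ∀ i j : Fin 3, ∀ e₁ e₂ e₃ e₄ : Fin 2, ∃ q : UT, q ∈ QS ∧
    q * rho i j x12 * q⁻¹ = rho i j x12 * zs ^ (e₁ : ℕ) ∧
    q * rho i j x34 * q⁻¹ = rho i j x34 * zs ^ (e₂ : ℕ) ∧
    q * rho i j x13 * q⁻¹ = rho i j x13 * zs ^ (e₃ : ℕ) ∧
    q * rho i j x24 * q⁻¹ = rho i j x24 * zs ^ (e₄ : ℕ) := by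
  decide +kernel

theorem gen_rel : x12 * x34 = x34 * x12 ∧ clr x12 ≠ clr x34 ∧ x12 * x13 = x13 * x12 ∧
    ¬ x34 * x13 = x13 * x34 ∧ ¬ x12 * x24 = x24 * x12 ∧ x34 * x24 = x24 * x34 ∧
    x13 * x24 = x24 * x13 ∧ x12 ≠ zs ∧ x34 ≠ zs ∧ x13 ≠ zs ∧ x24 ≠ zs ∧
    x12 ≠ 1 ∧ x34 ≠ 1 ∧ x13 ≠ 1 ∧ x24 ≠ 1 := by
  decide +kernel

end UT

end Cfsg.Agent.A8Type
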