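import Cfsg.Agent.A8Type.Cz.Norm
import Cfsg.Agent.A8Type.Cz.RotTab

/-!
The centralizer of the central involution modulo its core: the Sylow subgroup extended by a group of
exponent three of rotations of the extraspecial subgroup.
-/

set_option autoImplicit false
set_option maxRecDepth 8000

namespace Cfsg.Agent.A8Type

open Subgroup

namespace UT

theorem rho_zs : ∀ i j : Fin 3, rho i j zs = zs := by decide +kernel

theorem rho_mem : ∀ i j : Fin 3, ∀ x : UT, x ∈ QS → rho i j x ∈ QS := by decide +kernel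

theorem rho_gen : ∀ i j : Fin 3, ∀ y : UT, y ∈ [x12, x34, x13, x24] → ∀ x : UT, x ∈ QS →
    rho i j (x * y) = rho i j x * rho i j y := by
  decide +kernel

theorem clr_canon : ∀ x : UT, x ∈ QS →
    clr (x12 ^ x.a.val * x34 ^ x.f.val * x13 ^ x.b.val * x24 ^ x.e.val) = clr x := by
  decide +kernel

theorem rho_clr : ∀ i j : Fin 3, ∀ x : UT, x ∈ QS →
    clr (rho i j x) = lin (clr (rho i j x12)) (clr (rho i j x34)) (clr (rho i j x13)) (clr (rho i j x24))
      (clr x) := by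
  decide +kernel

theorem rho_zero : ∀ x : UT, x ∈ QS → rho 0 0 x = x := by decide +kernel

theorem zs_bit : ∀ x : UT, x = 1 ∨ x = zs → ∃ e : Fin 2, x = zs ^ (e : ℕ) := by decide +kernel

theorem clr_idem : ∀ x : UT, clr (clr x) = clr x := by decide +kernel

theorem clr_comm : ∀ x y : UT, (x * y = y * x ↔ clr x * clr y = clr y * clr x) := by decide +kernel

theorem clr_word (p q r s : UT) (i j k l : ℕ) :
    clr (clr p ^ i * clr q ^ j * clr r ^ k * clr s ^ l) = clr (p ^ i * q ^ j * r ^ k * s ^ l) := by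
  have key : ∀ x x' y y' : UT, clr x = clr x' → clr y = clr y' → clr (x * y) = clr (x' * y') :=
    fun x x' y y' h1 h2 => by rw [clr_spec.1, h1, h2, ← clr_spec.1]
  have hp : ∀ (x : UT) (n : ℕ), clr (clr x ^ n) = clr (x ^ n) := fun x n => by
    induction n with
    | zero => rfl
    | succ n ih => rw [pow_succ, pow_succ]; exact key _ _ _ _ ih (clr_idem x)
  exact key _ _ _ _ (key _ _ _ _ (key _ _ _ _ (hp p i) (hp q j)) (hp r k)) (hp s l)

end UT

/-- An element acts on the extraspecial subgroup as a map. -/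
def Base.Acts {G : Type*} [Group G] (B : Base G) (n : G) (ρ : UT → UT) : Prop :=
  ∀ x ∈ QS, n * B.f x * n⁻¹ = B.f (ρ x)

/-- The centralizer of the central involution induces a rotation. -/
def Base.Rot {G : Type*} [Group G] (B : Base G) (i j : Fin 3) : Prop :=
  ∃ n : G, Commute n B.z ∧ B.Acts n (rho i j)

namespace Base

variable {G : Type*} [Group G] (B : Base G)

theorem acts_of_gen {n : G} {ρ : UT → UT}
    (hρ : ∀ y ∈ [UT.x12, UT.x34, UT.x13, UT.x24], ∀ x ∈ QS, ρ (x * y) = ρ x * ρ y)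
    (hn : ∀ y ∈ [UT.x12, UT.x34, UT.x13, UT.x24], n * B.f y * n⁻¹ = B.f (ρ y)) : B.Acts n ρ := by
  intro x hx
  let H : Submonoid UT :=
    { carrier := {y | y ∈ QS ∧ ∀ x ∈ QS, ρ (x * y) = ρ x * ρ y ∧ n * B.f y * n⁻¹ = B.f (ρ y)}
      one_mem' := by
        have h1 : ρ 1 = 1 := by
          have e1 := hρ UT.x12 (by simp) 1 (one_mem _)
          rwa [one_mul, right_eq_mul] at e1
        exact ⟨one_mem _, fun x _ => ⟨by rw [mul_one, h1, mul_one], by rw [h1, map_one]; group⟩⟩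
      mul_mem' := fun {y y'} hy hy' => ⟨mul_mem hy.1 hy'.1, fun x hx => by
        refine ⟨?_, ?_⟩
        · rw [← mul_assoc, (hy'.2 _ (mul_mem hx hy.1)).1, (hy.2 x hx).1, mul_assoc,
            ← (hy'.2 y hy.1).1]
        · rw [map_mul, ← conj_mul, (hy.2 x hx).2, (hy'.2 x hx).2, ← map_mul, ← (hy'.2 y hy.1).1]⟩ }
  have hmem : ∀ y ∈ [UT.x12, UT.x34, UT.x13, UT.x24], y ∈ H := fun y hy => ⟨by
    obtain ⟨-, -, -, -, ⟨a1, a2, a3, a4⟩, -⟩ := UT.QS_gen_invol
    simp only [List.mem_cons, List.not_mem_nil, or_false] at hy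
    rcases hy with rfl | rfl | rfl | rfl <;> assumption, fun x hx => ⟨hρ y hy x hx, hn y hy⟩⟩
  obtain ⟨a, b, c, d, e, rfl⟩ := UT.QS_gen_invol.2.2.2.2.2.2.2 x hx
  have h1 := hmem UT.x12 (by simp)
  have h2 := hmem UT.x34 (by simp)
  have h3 := hmem UT.x13 (by simp)
  have h4 := hmem UT.x24 (by simp)
  exact ((mul_mem (mul_mem (mul_mem (mul_mem (pow_mem h1 (a : ℕ)) (pow_mem h2 (b : ℕ)))
    (pow_mem h3 (c : ℕ))) (pow_mem h4 (d : ℕ)))
    (pow_mem (mul_mem (mul_mem (mul_mem h1 h4) h1) h4) (e : ℕ))).2 1 (one_mem _)).2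

theorem rot_mul {i j k l : Fin 3} (h₁ : B.Rot i j) (h₂ : B.Rot k l) : B.Rot (i + k) (j + l) := by
  obtain ⟨n, hn, han⟩ := h₁
  obtain ⟨m, hm, ham⟩ := h₂
  refine ⟨n * m, hn.mul_left hm, fun x hx => ?_⟩
  rw [show n * m * B.f x * (n * m)⁻¹ = n * (m * B.f x * m⁻¹) * n⁻¹ by group, ham x hx,
    han _ (UT.rho_mem k l x hx), UT.rho_add i j k l x hx]

theorem rot_conj {i j : Fin 3} (h₁ : B.Rot i j) : B.Rot (-i) j := by
  obtain ⟨n, hn, han⟩ := h₁
  refine ⟨B.f UT.x23 * n * (B.f UT.x23)⁻¹,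
    (((B.comm_z _).mul_left hn).mul_left (B.comm_z _).inv_left), fun x hx => ?_⟩
  have h23 : UT.x23⁻¹ = UT.x23 := inv_eq_of_mul_eq_one_right UT.QS_gen_invol.2.2.2.2.2.1
  have hin : UT.x23 * x * UT.x23 ∈ QS := by
    have := UT.QS_facts.2.2.1 x hx UT.x23
    rwa [h23] at this
  have hf : (B.f UT.x23)⁻¹ = B.f UT.x23 := by rw [← map_inv, h23]
  rw [← UT.rho_conj i j x hx, map_mul, map_mul, ← han _ hin, map_mul, map_mul]
  simp only [mul_inv_rev, hf, mul_assoc]

theorem rot_split {i j : Fin 3} (h₁ : B.Rot i j) :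
    (i ≠ 0 → B.Rot 1 0) ∧ (j ≠ 0 → B.Rot 0 1) := by
  have h2 := B.rot_conj h₁
  have hij : B.Rot (i + (-i)) (j + j) := B.rot_mul h₁ h2
  have hi : B.Rot (-i) 0 := by
    have := B.rot_mul h₁ (B.rot_mul h2 h2)
    rwa [show i + (-i + -i) = -i by abel, (show ∀ j : Fin 3, j + (j + j) = 0 by decide) j] at this
  rw [show i + -i = 0 by abel] at hij
  refine ⟨fun h0 => ?_, fun h0 => ?_⟩
  · rcases (show i = 1 ∨ i = 2 by omega) with rfl | rfl
    · have := B.rot_mul hi hi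
      rwa [show (-1 : Fin 3) + -1 = 1 by decide, add_zero] at this
    · exact hi
  · rcases (show j = 1 ∨ j = 2 by omega) with rfl | rfl
    · simpa using B.rot_mul hij hij
    · exact hij

variable [Finite G] (h : B.Simp)
include h

/-- An element of the normalizer of the extraspecial subgroup in the kernel acts as a rotation,
after multiplication by an element of the extraspecial subgroup. -/
theorem rot_of_odd {b : G} (hbz : Commute b B.z) (hbQ : b ∈ normalizer (B.Q : Set G))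
    (hb : ¬ 2 ∣ orderOf b) : ∃ q ∈ QS, ∃ i j : Fin 3, B.Acts ((B.f q)⁻¹ * b) (rho i j) := by
  classical
  have himg : ∀ x ∈ QS, ∃ y ∈ QS, b * B.f x * b⁻¹ = B.f y := fun x hx => by
    obtain ⟨y, hy, he⟩ := (mem_normalizer_iff.1 hbQ _).1 (mem_map_of_mem B.f hx)
    exact ⟨y, hy, he.symm⟩
  choose! F hFQ hF using himg
  have hmul : ∀ x ∈ QS, ∀ y ∈ QS, F (x * y) = F x * F y := fun x hx y hy => B.inj (by
    rw [map_mul, ← hF _ (mul_mem hx hy), ← hF x hx, ← hF y hy, map_mul]; group)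
  have hFinj : ∀ x ∈ QS, ∀ y ∈ QS, F x = F y → x = y := fun x hx y hy e => B.inj (by
    have := (hF x hx).trans ((congrArg B.f e).trans (hF y hy).symm)
    exact mul_left_cancel (mul_right_cancel this))
  have hFz : F zs = zs := B.inj (by
    rw [← hF zs UT.QS_facts.2.1]
    show b * B.z * b⁻¹ = B.z
    rw [hbz.eq, mul_inv_cancel_right])
  have hF1 : F 1 = 1 := B.inj (by rw [← hF 1 (one_mem _), map_one]; group)
  obtain ⟨p12, p34, p13, p24, ⟨m12, m34, m13, m24⟩, -⟩ := UT.QS_gen_invol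
  obtain ⟨r1, r2, r3, r4, r5, r6, r7, n1, n2, n3, n4, o1, o2, o3, o4⟩ := UT.gen_rel
  have hnine : ∀ x ∈ QS, x * x = 1 → x ≠ 1 → x ≠ zs → UT.clr (F x) ∈ UT.nine := by
    intro x hx hx2 hx1 hxz
    refine UT.nine_spec _ (hFQ x hx) ?_ ?_ ?_
    · rw [← hmul x hx x hx, hx2, hF1]
    · exact fun e => hx1 (hFinj x hx 1 (one_mem _) (e.trans hF1.symm))
    · exact fun e => hxz (hFinj x hx zs UT.QS_facts.2.1 (e.trans hFz.symm))
  have hcl : ∀ x : UT, x = UT.clr x ∨ x = UT.clr x * zs := fun x =>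
    UT.clr_spec.2.1 (UT.clr x) x (UT.clr_idem x)
  have hzc : ∀ x : UT, x * zs = zs * x := fun x => UT.zs_facts.2.2.1 x
  have hcomm := UT.clr_comm
  have hFcomm : ∀ x ∈ QS, ∀ y ∈ QS,
      (UT.clr (F x) * UT.clr (F y) = UT.clr (F y) * UT.clr (F x) ↔ x * y = y * x) := by
    intro x hx y hy
    rw [← hcomm, ← hmul x hx y hy, ← hmul y hy x hx]
    exact ⟨hFinj _ (mul_mem hx hy) _ (mul_mem hy hx), congrArg F⟩
  set a := UT.clr (F UT.x12) with ha
  set c := UT.clr (F UT.x13) with hc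
  set b' := UT.clr (F UT.x34) with hb'
  set d := UT.clr (F UT.x24) with hd
  have hne : UT.clr a ≠ UT.clr b' := by
    rw [ha, hb', UT.clr_idem, UT.clr_idem]
    intro e
    rcases UT.clr_spec.2.1 _ _ e with e' | e'
    · exact r2 (congrArg UT.clr (hFinj _ m34 _ m12 e')).symm
    · rw [← hFz, ← hmul _ m12 _ UT.QS_facts.2.1] at e'
      exact r2 (by rw [hFinj _ m34 _ (mul_mem m12 UT.QS_facts.2.1) e', UT.clr_spec.2.2.2])
  obtain ⟨h36, hcase⟩ := UT.classify a (hnine _ m12 p12 o1 n1) b' (hnine _ m34 p34 o2 n2)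
    ((hFcomm _ m12 _ m34).2 r1) hne c (hnine _ m13 p13 o3 n3) ((hFcomm _ m12 _ m13).2 r3)
    (fun e => r4 ((hFcomm _ m34 _ m13).1 e)) d (hnine _ m24 p24 o4 n4)
    (fun e => r5 ((hFcomm _ m12 _ m24).1 e)) ((hFcomm _ m34 _ m24).2 r6)
    ((hFcomm _ m13 _ m24).2 r7)
  -- the map modulo the centre
  have hlinF : ∀ x ∈ QS, UT.lin a b' c d (UT.clr x) = UT.clr (F x) := by
    intro x hx
    have hb : (UT.clr x).a = x.a ∧ (UT.clr x).f = x.f ∧ (UT.clr x).b = x.b ∧ (UT.clr x).e = x.e :=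
      ⟨rfl, rfl, rfl, rfl⟩
    unfold UT.lin
    rw [hb.1, hb.2.1, hb.2.2.1, hb.2.2.2]
    have hpow : ∀ (y : UT), y ∈ QS → ∀ k : ℕ, F (y ^ k) = F y ^ k := fun y hy k => by
      induction k with
      | zero => simpa using hF1
      | succ k ih => rw [pow_succ, hmul _ (pow_mem hy k) _ hy, ih, pow_succ]
    have hcanon : UT.clr (F x) = UT.clr (F (UT.x12 ^ x.a.val * UT.x34 ^ x.f.val * UT.x13 ^ x.b.val *
        UT.x24 ^ x.e.val)) := by
      rcases UT.clr_spec.2.1 _ _ (UT.clr_canon x hx).symm with e | e <;> rw [e]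
      rw [hmul _ hx _ UT.QS_facts.2.1, hFz, UT.clr_spec.2.2.2]
    rw [hcanon, hmul _ (mul_mem (mul_mem (pow_mem m12 _) (pow_mem m34 _)) (pow_mem m13 _)) _
      (pow_mem m24 _), hmul _ (mul_mem (pow_mem m12 _) (pow_mem m34 _)) _ (pow_mem m13 _),
      hmul _ (pow_mem m12 _) _ (pow_mem m34 _), hpow _ m12, hpow _ m34, hpow _ m13, hpow _ m24]
    exact UT.clr_word _ _ _ _ _ _ _ _
  have hit : ∀ k : ℕ, ∀ x ∈ QS, ∃ y ∈ QS, b ^ k * B.f x * (b ^ k)⁻¹ = B.f y ∧
      (UT.lin a b' c d)^[k] (UT.clr x) = UT.clr y := by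
    intro k
    induction k with
    | zero => intro x hx; exact ⟨x, hx, by simp, rfl⟩
    | succ k ih =>
      intro x hx
      obtain ⟨y, hy, he, hl⟩ := ih x hx
      refine ⟨F y, hFQ y hy, ?_, by rw [Function.iterate_succ_apply', hl, hlinF y hy]⟩
      rw [pow_succ' b, show b * b ^ k * B.f x * (b * b ^ k)⁻¹ = b * (b ^ k * B.f x * (b ^ k)⁻¹) * b⁻¹ by group,
        he, hF y hy]
  have hper : UT.Per 9 a b' c d := by
    intro x hx
    obtain ⟨y, hy, he, hl⟩ := hit (orderOf b) x hx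
    rw [pow_orderOf_eq_one, inv_one, one_mul, mul_one] at he
    rw [← B.inj he] at hl
    have h1 : Function.IsPeriodicPt (UT.lin a b' c d) (orderOf b) (UT.clr x) := hl
    have h2 : Function.IsPeriodicPt (UT.lin a b' c d) 36 (UT.clr x) := h36 x hx
    have h3 := h1.gcd h2
    have hg : Nat.gcd (orderOf b) 36 ∣ 9 := by
      have hd1 : Nat.gcd (orderOf b) 36 ∣ 4 * 9 := Nat.gcd_dvd_right _ _
      refine (Nat.Coprime.dvd_of_dvd_mul_left ?_ hd1)
      have hodd : ¬ 2 ∣ Nat.gcd (orderOf b) 36 := fun h2' => hb (h2'.trans (Nat.gcd_dvd_left _ _))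
      exact ((Nat.prime_two.coprime_iff_not_dvd.2 hodd).pow_left 2).symm
    exact h3.trans_dvd hg
  obtain ⟨i, j, e1, e2, e3, e4⟩ := hcase.resolve_left (fun hn => hn hper)
  -- the signs
  have sign : ∀ y : UT, UT.clr (rho i j y) = UT.clr (F y) → ∃ e : Fin 2, F y = rho i j y * zs ^ (e : ℕ) := by
    intro y hy
    rcases UT.clr_spec.2.1 _ _ hy with e | e
    · exact ⟨0, by rw [e]; simp⟩
    · exact ⟨1, by rw [e]; simp⟩
  obtain ⟨u1, hu1⟩ := sign _ e1
  obtain ⟨u2, hu2⟩ := sign _ e2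
  obtain ⟨u3, hu3⟩ := sign _ e3
  obtain ⟨u4, hu4⟩ := sign _ e4
  obtain ⟨q, hq, q1, q2, q3, q4⟩ := UT.sign_fix i j u1 u2 u3 u4
  refine ⟨q, hq, i, j, B.acts_of_gen (UT.rho_gen i j) fun y hy => ?_⟩
  have key : ∀ y ∈ QS, F y = q * rho i j y * q⁻¹ → (B.f q)⁻¹ * b * B.f y * ((B.f q)⁻¹ * b)⁻¹ = B.f (rho i j y) := by
    intro y hy e
    rw [show (B.f q)⁻¹ * b * B.f y * ((B.f q)⁻¹ * b)⁻¹ = (B.f q)⁻¹ * (b * B.f y * b⁻¹) * B.f q by group,
      hF y hy, e, B.conj_f]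
    group
  simp only [List.mem_cons, List.not_mem_nil, or_false] at hy
  rcases hy with rfl | rfl | rfl | rfl
  · exact key _ m12 (hu1.trans q1.symm)
  · exact key _ m34 (hu2.trans q2.symm)
  · exact key _ m13 (hu3.trans q3.symm)
  · exact key _ m24 (hu4.trans q4.symm)

/-- The elements of the centralizer inducing rotations. -/
def IsK {G : Type*} [Group G] (B : Base G) (n : G) : Prop :=
  Commute n B.z ∧ ∃ i j : Fin 3, B.Acts n (rho i j)

omit [Finite G] h in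
theorem acts_comp {n m : G} {ρ σ : UT → UT} (hn : B.Acts n ρ) (hm : B.Acts m σ)
    (hσ : ∀ x ∈ QS, σ x ∈ QS) : B.Acts (n * m) (fun x => ρ (σ x)) := fun x hx => by
  rw [show n * m * B.f x * (n * m)⁻¹ = n * (m * B.f x * m⁻¹) * n⁻¹ by group, hm x hx, hn _ (hσ x hx)]

omit [Finite G] h in
theorem acts_f (s : UT) : B.Acts (B.f s) (fun x => s * x * s⁻¹) := fun x _ => (B.conj_f s x).symm

omit [Finite G] h in
theorem acts_inv_rho {n : G} {i j : Fin 3} (hn : B.Acts n (rho i j)) : B.Acts n⁻¹ (rho (-i) (-j)) := by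
  intro x hx
  have h1 := hn _ (UT.rho_mem (-i) (-j) x hx)
  rw [UT.rho_add i j (-i) (-j) x hx, add_neg_cancel, add_neg_cancel, UT.rho_zero x hx] at h1
  rw [← h1]
  group

omit [Finite G] h in
theorem isK_one : B.IsK 1 :=
  ⟨Commute.one_left _, 0, 0, fun x hx => by rw [UT.rho_zero x hx]; group⟩

omit [Finite G] h in
theorem isK_mul {n m : G} (hn : B.IsK n) (hm : B.IsK m) : B.IsK (n * m) := by
  obtain ⟨hnz, i, j, han⟩ := hn
  obtain ⟨hmz, k, l, ham⟩ := hm
  refine ⟨hnz.mul_left hmz, i + k, j + l, fun x hx => ?_⟩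
  rw [B.acts_comp han ham (UT.rho_mem k l) x hx]
  dsimp only
  rw [UT.rho_add i j k l x hx]

omit [Finite G] h in
theorem isK_inv {n : G} (hn : B.IsK n) : B.IsK n⁻¹ := by
  obtain ⟨hnz, i, j, han⟩ := hn
  exact ⟨hnz.inv_left, -i, -j, B.acts_inv_rho han⟩

omit [Finite G] h in
theorem acts_conj23 {n : G} {i j : Fin 3} (hn : B.Acts n (rho i j)) :
    B.Acts ((B.f UT.x23)⁻¹ * n * B.f UT.x23) (rho (-i) j) := by
  have hinv : ∀ x ∈ QS, rho i j (UT.x23 * x * UT.x23⁻¹) ∈ QS := fun x hx =>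
    UT.rho_mem i j _ (UT.QS_facts.2.2.1 x hx _)
  have h23 : UT.x23⁻¹ = UT.x23 := inv_eq_of_mul_eq_one_right UT.QS_gen_invol.2.2.2.2.2.1
  intro x hx
  have h1 := B.acts_comp (B.acts_comp (B.acts_f UT.x23⁻¹) hn (UT.rho_mem i j))
    (B.acts_f UT.x23) (fun y hy => UT.QS_facts.2.2.1 y hy _) x hx
  rw [map_inv] at h1
  rw [h1, h23]
  dsimp only
  rw [h23, UT.rho_conj i j x hx]

omit [Finite G] h in
/-- An element inducing a rotation is pushed past an element of the model. -/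
theorem isK_push {n : G} (hn : B.IsK n) (s : UT) : ∃ t : UT, ∃ n' : G, B.IsK n' ∧ n * B.f s = B.f t * n' := by
  obtain ⟨hnz, i, j, han⟩ := hn
  have hQ : ∀ {n : G} {i j : Fin 3}, B.Acts n (rho i j) → ∀ q ∈ QS,
      n * B.f q = B.f (rho i j q) * n := fun {n i j} hn q hq => by rw [← hn q hq]; group
  by_cases hs : s ∈ QS
  · exact ⟨_, n, ⟨hnz, i, j, han⟩, hQ han s hs⟩
  obtain ⟨q, hq, rfl⟩ := UT.QS_facts.2.2.2.2 s hs
  have h2 := B.acts_conj23 han
  refine ⟨UT.x23 * rho (-i) j q, (B.f UT.x23)⁻¹ * n * B.f UT.x23,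
    ⟨((B.comm_z _).inv_left.mul_left hnz).mul_left (B.comm_z _), -i, j, h2⟩, ?_⟩
  rw [map_mul, map_mul, mul_assoc (B.f UT.x23), ← hQ h2 q hq]
  group

/-- The core times the model times the elements inducing rotations. -/
def spl : Subgroup G where
  carrier := {g | ∃ o ∈ theta B.z, ∃ s : UT, ∃ n : G, B.IsK n ∧ g = o * B.f s * n}
  one_mem' := ⟨1, one_mem _, 1, 1, B.isK_one, by rw [map_one, one_mul, one_mul]⟩
  mul_mem' := by
    rintro _ _ ⟨o, ho, s, n, hn, rfl⟩ ⟨o', ho', s', n', hn', rfl⟩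
    obtain ⟨t, m, hm, he⟩ := B.isK_push hn s'
    refine ⟨o * ((B.f s * n) * o' * (B.f s * n)⁻¹), mul_mem ho
      (theta_normal ((B.comm_z s).mul_left hn.1) ho'), s * t, m * n', B.isK_mul hm hn', ?_⟩
    rw [map_mul, show o * ((B.f s * n) * o' * (B.f s * n)⁻¹) * (B.f s * B.f t) * (m * n') =
      o * (B.f s * n) * o' * n⁻¹ * (B.f t * m) * n' by group, ← he]
    group
  inv_mem' := by
    rintro _ ⟨o, ho, s, n, hn, rfl⟩
    obtain ⟨t, m, hm, he⟩ := B.isK_push (B.isK_inv hn) s⁻¹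
    refine ⟨(B.f t * m) * o⁻¹ * (B.f t * m)⁻¹, theta_normal ((B.comm_z t).mul_left hm.1) (inv_mem ho),
      t, m, hm, ?_⟩
    calc (o * B.f s * n)⁻¹ = n⁻¹ * B.f s⁻¹ * o⁻¹ := by rw [map_inv]; group
      _ = _ := by rw [he]; group

/-- Every element of the centralizer of the central involution is in the core times the model times
an element inducing a rotation. -/
theorem exists_spl {g : G} (hg : Commute g B.z) :
    ∃ o ∈ theta B.z, ∃ s : UT, ∃ n : G, B.IsK n ∧ g = o * B.f s * n := by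
  classical
  haveI : Fact (Nat.Prime 2) := ⟨Nat.prime_two⟩
  suffices hle : centralizer ({B.z} : Set G) ⊓ normalizer (B.Q : Set G) ≤ B.spl by
    obtain ⟨o, ho, n, hnz, hnQ, rfl⟩ := B.decomp h hg
    obtain ⟨o', ho', s, m, hm, he⟩ := hle ⟨mem_centralizer_singleton_iff.2 hnz.eq, hnQ⟩
    exact ⟨o * o', mul_mem ho ho', s, m, hm, by rw [he]; group⟩
  set H := centralizer ({B.z} : Set G) ⊓ normalizer (B.Q : Set G) with hH
  have hrH : B.f.range ≤ H := le_inf B.range_le (by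
    rintro _ ⟨r, rfl⟩
    refine mem_normalizer_iff_map_conj_eq.2 (eq_of_le_of_card_ge ?_
      (by rw [card_map_of_injective (MulEquiv.injective _)]))
    rintro _ ⟨_, ⟨q, hq, rfl⟩, rfl⟩
    exact ⟨r * q * r⁻¹, UT.QS_facts.2.2.1 q hq r, B.conj_f r q⟩)
  set D := B.spl ⊓ H with hD
  have hodd : ∀ b ∈ H, ¬ 2 ∣ orderOf b → b ∈ D := by
    intro b hb hb2
    have hbz : Commute b B.z := mem_centralizer_singleton_iff.1 hb.1
    obtain ⟨q, hq, i, j, hact⟩ := B.rot_of_odd h hbz hb.2 hb2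
    exact ⟨⟨1, one_mem _, q, (B.f q)⁻¹ * b, ⟨(B.comm_z q).inv_left.mul_left hbz, i, j, hact⟩,
      by group⟩, hb⟩
  have hrD : B.f.range ≤ D := le_inf (by
    rintro _ ⟨r, rfl⟩
    exact ⟨1, one_mem _, r, 1, B.isK_one, by group⟩) hrH
  have hdvd : Nat.card H ∣ Nat.card D := by
    refine (Nat.dvd_iff_prime_pow_dvd_dvd _ _).2 fun p k hp hk => ?_
    haveI : Fact p.Prime := ⟨hp⟩
    rcases eq_or_ne p 2 with rfl | hp2
    · obtain ⟨S, hS⟩ := B.sylow
      have h1 : 2 ^ k ∣ Nat.card (S : Subgroup G) := S.pow_dvd_card_of_pow_dvd_card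
        (hk.trans (Subgroup.card_subgroup_dvd_card H))
      rw [hS] at h1
      exact h1.trans (card_dvd_of_le hrD)
    · obtain ⟨U, hU⟩ := Sylow.exists_subgroup_card_pow_prime p hk
      have hle : U.map H.subtype ≤ D := by
        rintro _ ⟨u, hu, rfl⟩
        refine hodd _ u.2 fun h2 => ?_
        rw [Subgroup.coe_subtype, Subgroup.orderOf_coe] at h2
        have h3 := h2.trans (Subgroup.orderOf_dvd_natCard U hu)
        rw [hU] at h3
        exact hp2 ((Nat.prime_dvd_prime_iff_eq Nat.prime_two hp).1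
          (Nat.prime_two.dvd_of_dvd_pow h3)).symm
      have h1 := card_dvd_of_le hle
      rwa [card_map_of_injective H.subtype_injective, hU] at h1
  have he : D = H := eq_of_le_of_card_ge inf_le_right (Nat.le_of_dvd Nat.card_pos hdvd)
  exact he ▸ inf_le_left

end Base

end Cfsg.Agent.A8Type
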